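import Cfsg.Agent.Helper19.Cox.Main
import Cfsg.Prelude.Def_ChevStructure

set_option autoImplicit false
set_option maxRecDepth 100000

/-! Certificate data for the Coxeter group of type D4 (generated). -/

namespace Cfsg.Agent.Helper19.Cox.D4

open Cfsg.Agent.Helper19.Cox

def MxL : List (List ℕ) :=
   [[1, 3, 2, 2],
    [3, 1, 3, 3],
    [2, 3, 1, 2],
    [2, 3, 2, 1]]

def Mx (a b : ℕ) : ℕ := (MxL.getD a []).getD b 0

def T : List ℕ :=
   [12004854962411814580104735183108966150,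
    20006204703822354959441914592653017600,
    18687341019346104589658416821605433600,
    20011356514782773117445614275888677120]

def reps1 : List (List ℕ) :=
   [[],
    [0]]

def steps1_0 : List Step :=
  [(0, 0, 0, 1)]

def level1 : Level := (reps1, steps1_0, 0)

def reps2 : List (List ℕ) :=
   [[],
    [1],
    [1, 0]]

def steps2_0 : List Step :=
  [(0, 0, 1, 1), (0, 1, 0, 2), (1, 0, 0, 0), (2, 0, 1, 2)]

def level2 : Level := (reps2, steps2_0, 2)

def reps3 : List (List ℕ) :=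
   [[],
    [2],
    [2, 1],
    [2, 1, 0]]

def steps3_0 : List Step :=
  [(0, 0, 2, 1), (0, 1, 1, 2), (0, 2, 0, 3), (1, 0, 0, 0), (1, 1, 0, 0), (2, 1, 2, 2),
   (2, 2, 0, 1), (2, 0, 1, 3), (2, 0, 2, 3)]

def level3 : Level := (reps3, steps3_0, 3)

def reps4 : List (List ℕ) :=
   [[],
    [3],
    [3, 1],
    [3, 1, 0],
    [3, 1, 2],
    [3, 1, 0, 2],
    [3, 1, 0, 2, 1],
    [3, 1, 0, 2, 1, 3]]

def steps4_0 : List Step :=
  [(0, 0, 3, 1), (0, 1, 1, 2), (0, 2, 0, 3), (0, 2, 2, 4), (0, 3, 2, 5), (0, 5, 1, 6),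
   (0, 6, 3, 7), (1, 0, 0, 0), (1, 1, 0, 0), (1, 2, 0, 0), (2, 1, 3, 2), (2, 2, 0, 4),
   (2, 2, 3, 4), (2, 3, 0, 1), (2, 3, 2, 1), (2, 0, 1, 3), (2, 0, 3, 3), (2, 0, 3, 5),
   (2, 1, 2, 6), (2, 2, 1, 4), (2, 3, 1, 7), (2, 3, 2, 7), (2, 1, 0, 6), (2, 3, 0, 7)]

def level4 : Level := (reps4, steps4_0, 11)

def levels : List Level := [level1, level2, level3, level4]

theorem hMx' : ∀ a b : Fin 4, (Cfsg.Lie.coxeterD4) a b = Mx a.1 b.1 := by
  intro a b; fin_cases a <;> fin_cases b <;> rfl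

theorem hMx : ∀ a b (ha : a < 4) (hb : b < 4), (Cfsg.Lie.coxeterD4) ⟨a, ha⟩ ⟨b, hb⟩ = Mx a b :=
  fun a b ha hb => hMx' ⟨a, ha⟩ ⟨b, hb⟩

theorem hI : checkInvol T 4 16 = true := by decide +kernel

theorem hB : checkBraid Mx T 4 16 = true := by decide +kernel

theorem hL : checkLevels Mx T 4 16 0 levels = true := by decide +kernel

theorem hprod : (levels.map fun lv => lv.1.length).prod = 192 := by decide +kernel

theorem card_eq : Nat.card (Cfsg.Lie.coxeterD4).Group = 192 := by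
  rw [← hprod]
  exact (main (Cfsg.Lie.coxeterD4) Mx hI hB hMx levels (by decide) hL).1

theorem phi_injective : Function.Injective (phi (Cfsg.Lie.coxeterD4) Mx hI hB hMx) :=
  (main (Cfsg.Lie.coxeterD4) Mx hI hB hMx levels (by decide) hL).2

end Cfsg.Agent.Helper19.Cox.D4
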