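import Cfsg.Agent.Helper19.Cox.Main

set_option autoImplicit false
set_option maxRecDepth 100000

/-! Certificate data for the Coxeter group of type E6 (generated). -/

namespace Cfsg.Agent.Helper19.Cox.E6

open Cfsg.Agent.Helper19.Cox

def MxL : List (List ℕ) :=
   [[1, 2, 3, 2, 2, 2],
    [2, 1, 2, 3, 2, 2],
    [3, 2, 1, 3, 2, 2],
    [2, 3, 3, 1, 3, 2],
    [2, 2, 2, 3, 1, 3],
    [2, 2, 2, 2, 3, 1]]

def Mx (a b : ℕ) : ℕ := (MxL.getD a []).getD b 0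

def T : List ℕ :=
   [2063327329269417291757203405723777590799474442727674909054932501,
    8679223593559737120119536364970305483895652247727072201542861061,
    10736053876469829995566768238895252058448132742237962047724847366,
    9913364565752257842386276949460518543216640511397174141002055936,
    10736098037627583351767407372120795444480588949277898781399122176,
    10736104265785240951937889597265823796138323047537533266719474176]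

def reps1 : List (List ℕ) :=
   [[],
    [0]]

def steps1_0 : List Step :=
  [(0, 0, 0, 1)]

def level1 : Level := (reps1, steps1_0, 0)

def reps2 : List (List ℕ) :=
   [[],
    [1]]

def steps2_0 : List Step :=
  [(0, 0, 1, 1), (1, 0, 0, 0), (2, 1, 0, 1)]

def level2 : Level := (reps2, steps2_0, 6)

def reps3 : List (List ℕ) :=
   [[],
    [2],
    [2, 0]]

def steps3_0 : List Step :=
  [(0, 0, 2, 1), (0, 1, 0, 2), (1, 0, 0, 0), (1, 1, 0, 0), (2, 0, 2, 2), (2, 2, 1, 1),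
   (2, 0, 1, 2)]

def level3 : Level := (reps3, steps3_0, 10)

def reps4 : List (List ℕ) :=
   [[],
    [3],
    [3, 1],
    [3, 2],
    [3, 1, 2],
    [3, 2, 0],
    [3, 1, 2, 0],
    [3, 1, 2, 3],
    [3, 1, 2, 0, 3],
    [3, 1, 2, 0, 3, 2]]

def steps4_0 : List Step :=
  [(0, 0, 3, 1), (0, 1, 1, 2), (0, 1, 2, 3), (0, 2, 2, 4), (0, 3, 0, 5), (0, 4, 0, 6),
   (0, 4, 3, 7), (0, 6, 3, 8), (0, 8, 2, 9), (1, 0, 0, 0), (1, 1, 0, 0), (1, 2, 0, 0),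
   (2, 1, 3, 2), (2, 2, 1, 3), (2, 2, 3, 3), (2, 3, 0, 1), (2, 3, 0, 7), (2, 3, 1, 7),
   (2, 3, 2, 7), (2, 0, 1, 5), (2, 0, 1, 8), (2, 0, 2, 5), (2, 0, 3, 5), (2, 1, 0, 2),
   (2, 1, 2, 6), (2, 2, 0, 9), (2, 2, 1, 9), (2, 2, 3, 9)]

def level4 : Level := (reps4, steps4_0, 11)

def reps5 : List (List ℕ) :=
   [[],
    [4],
    [4, 3],
    [4, 3, 1],
    [4, 3, 2],
    [4, 3, 1, 2],
    [4, 3, 2, 0],
    [4, 3, 1, 2, 0],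
    [4, 3, 1, 2, 3],
    [4, 3, 1, 2, 0, 3],
    [4, 3, 1, 2, 3, 4],
    [4, 3, 1, 2, 0, 3, 2],
    [4, 3, 1, 2, 0, 3, 4],
    [4, 3, 1, 2, 0, 3, 2, 4],
    [4, 3, 1, 2, 0, 3, 2, 4, 3],
    [4, 3, 1, 2, 0, 3, 2, 4, 3, 1]]

def steps5_0 : List Step :=
  [(0, 0, 4, 1), (0, 1, 3, 2), (0, 2, 1, 3), (0, 2, 2, 4), (0, 3, 2, 5), (0, 4, 0, 6),
   (0, 5, 0, 7), (0, 5, 3, 8), (0, 7, 3, 9), (0, 8, 4, 10), (0, 9, 2, 11), (0, 9, 4, 12),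
   (0, 11, 4, 13), (0, 13, 3, 14), (0, 14, 1, 15), (1, 0, 0, 0), (1, 1, 0, 0), (1, 2, 0, 0),
   (1, 3, 0, 0), (2, 2, 1, 4), (2, 3, 0, 8), (2, 3, 4, 2), (2, 4, 0, 1), (2, 4, 0, 10),
   (2, 4, 1, 1), (2, 4, 2, 1), (2, 4, 2, 12), (2, 0, 1, 6), (2, 1, 3, 3), (2, 1, 4, 3),
   (2, 2, 3, 4), (2, 2, 4, 4), (2, 2, 4, 5), (2, 3, 0, 2), (2, 3, 1, 8), (2, 3, 2, 8),
   (2, 4, 1, 10), (2, 4, 2, 10), (2, 4, 3, 10), (2, 0, 1, 9), (2, 0, 1, 12), (2, 0, 2, 6),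
   (2, 0, 3, 6), (2, 0, 3, 12), (2, 0, 4, 6), (2, 0, 4, 7), (2, 1, 0, 3), (2, 1, 2, 7),
   (2, 2, 0, 11), (2, 2, 0, 13), (2, 2, 1, 11), (2, 2, 1, 13), (2, 2, 3, 11), (2, 3, 0, 14),
   (2, 3, 2, 14), (2, 3, 4, 14), (2, 1, 0, 15), (2, 1, 2, 15), (2, 1, 3, 15), (2, 1, 4, 15)]

def level5 : Level := (reps5, steps5_0, 12)

def reps6 : List (List ℕ) :=
   [[],
    [5],
    [5, 4],
    [5, 4, 3],
    [5, 4, 3, 1],
    [5, 4, 3, 2],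
    [5, 4, 3, 1, 2],
    [5, 4, 3, 2, 0],
    [5, 4, 3, 1, 2, 0],
    [5, 4, 3, 1, 2, 3],
    [5, 4, 3, 1, 2, 0, 3],
    [5, 4, 3, 1, 2, 3, 4],
    [5, 4, 3, 1, 2, 0, 3, 2],
    [5, 4, 3, 1, 2, 0, 3, 4],
    [5, 4, 3, 1, 2, 3, 4, 5],
    [5, 4, 3, 1, 2, 0, 3, 2, 4],
    [5, 4, 3, 1, 2, 0, 3, 4, 5],
    [5, 4, 3, 1, 2, 0, 3, 2, 4, 3],
    [5, 4, 3, 1, 2, 0, 3, 2, 4, 5],
    [5, 4, 3, 1, 2, 0, 3, 2, 4, 3, 1],
    [5, 4, 3, 1, 2, 0, 3, 2, 4, 3, 5],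
    [5, 4, 3, 1, 2, 0, 3, 2, 4, 3, 1, 5],
    [5, 4, 3, 1, 2, 0, 3, 2, 4, 3, 5, 4],
    [5, 4, 3, 1, 2, 0, 3, 2, 4, 3, 1, 5, 4],
    [5, 4, 3, 1, 2, 0, 3, 2, 4, 3, 1, 5, 4, 3],
    [5, 4, 3, 1, 2, 0, 3, 2, 4, 3, 1, 5, 4, 3, 2],
    [5, 4, 3, 1, 2, 0, 3, 2, 4, 3, 1, 5, 4, 3, 2, 0]]

def steps6_0 : List Step :=
  [(0, 0, 5, 1), (0, 1, 4, 2), (0, 2, 3, 3), (0, 3, 1, 4), (0, 3, 2, 5), (0, 4, 2, 6),
   (0, 5, 0, 7), (0, 6, 0, 8), (0, 6, 3, 9), (0, 8, 3, 10), (0, 9, 4, 11), (0, 10, 2, 12),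
   (0, 10, 4, 13), (0, 11, 5, 14), (0, 12, 4, 15), (0, 13, 5, 16), (0, 15, 3, 17), (0, 15, 5, 18),
   (0, 17, 1, 19), (0, 17, 5, 20), (0, 19, 5, 21), (0, 20, 4, 22), (0, 21, 4, 23), (0, 23, 3, 24),
   (0, 24, 2, 25), (0, 25, 0, 26), (1, 0, 0, 0), (1, 1, 0, 0), (1, 2, 0, 0), (1, 3, 0, 0),
   (1, 4, 0, 0), (2, 2, 1, 5), (2, 3, 0, 9), (2, 4, 0, 11), (2, 4, 2, 13), (2, 4, 5, 2),
   (2, 5, 0, 1), (2, 5, 0, 14), (2, 5, 1, 1), (2, 5, 1, 20), (2, 5, 2, 1), (2, 5, 2, 16),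
   (2, 5, 3, 1), (2, 5, 3, 18), (2, 0, 1, 7), (2, 3, 4, 3), (2, 3, 5, 3), (2, 4, 0, 2),
   (2, 4, 1, 2), (2, 4, 1, 22), (2, 4, 2, 2), (2, 1, 3, 4), (2, 1, 4, 4), (2, 1, 5, 4),
   (2, 2, 3, 5), (2, 2, 4, 5), (2, 2, 4, 6), (2, 2, 5, 5), (2, 2, 5, 6), (2, 3, 0, 3),
   (2, 3, 1, 9), (2, 3, 2, 9), (2, 3, 5, 9), (2, 4, 1, 11), (2, 4, 2, 11), (2, 4, 3, 11),
   (2, 5, 1, 14), (2, 5, 2, 14), (2, 5, 3, 14), (2, 5, 4, 14), (2, 0, 1, 10), (2, 0, 1, 13),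
   (2, 0, 1, 16), (2, 0, 2, 7), (2, 0, 3, 7), (2, 0, 3, 13), (2, 0, 3, 16), (2, 0, 4, 7),
   (2, 0, 4, 8), (2, 0, 4, 16), (2, 0, 5, 7), (2, 0, 5, 8), (2, 0, 5, 10), (2, 1, 0, 4),
   (2, 1, 2, 8), (2, 2, 0, 12), (2, 2, 0, 15), (2, 2, 0, 18), (2, 2, 1, 12), (2, 2, 1, 15),
   (2, 2, 1, 18), (2, 2, 3, 12), (2, 2, 4, 18), (2, 2, 5, 12), (2, 3, 0, 17), (2, 3, 0, 20),
   (2, 3, 2, 17), (2, 3, 2, 20), (2, 3, 4, 17), (2, 4, 0, 22), (2, 4, 2, 22), (2, 4, 3, 22),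
   (2, 4, 5, 22), (2, 1, 0, 19), (2, 1, 0, 21), (2, 1, 0, 23), (2, 1, 2, 19), (2, 1, 2, 21),
   (2, 1, 2, 23), (2, 1, 3, 19), (2, 1, 3, 21), (2, 1, 4, 19), (2, 1, 5, 23), (2, 2, 3, 25),
   (2, 3, 0, 24), (2, 3, 1, 24), (2, 3, 4, 24), (2, 3, 5, 24), (2, 0, 2, 26), (2, 0, 3, 26),
   (2, 2, 1, 25), (2, 2, 4, 25), (2, 2, 5, 25), (2, 0, 1, 26), (2, 0, 4, 26), (2, 0, 5, 26)]

def level6 : Level := (reps6, steps6_0, 13)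

def levels : List Level := [level1, level2, level3, level4, level5, level6]

theorem hMx' : ∀ a b : Fin 6, (CoxeterMatrix.E₆) a b = Mx a.1 b.1 := by
  intro a b; fin_cases a <;> fin_cases b <;> rfl

theorem hMx : ∀ a b (ha : a < 6) (hb : b < 6), (CoxeterMatrix.E₆) ⟨a, ha⟩ ⟨b, hb⟩ = Mx a b :=
  fun a b ha hb => hMx' ⟨a, ha⟩ ⟨b, hb⟩

theorem hI : checkInvol T 6 27 = true := by decide +kernel

theorem hB : checkBraid Mx T 6 27 = true := by decide +kernel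

theorem hL : checkLevels Mx T 6 27 0 levels = true := by decide +kernel

theorem hprod : (levels.map fun lv => lv.1.length).prod = 51840 := by decide +kernel

theorem card_eq : Nat.card (CoxeterMatrix.E₆).Group = 51840 := by
  rw [← hprod]
  exact (main (CoxeterMatrix.E₆) Mx hI hB hMx levels (by decide) hL).1

theorem phi_injective : Function.Injective (phi (CoxeterMatrix.E₆) Mx hI hB hMx) :=
  (main (CoxeterMatrix.E₆) Mx hI hB hMx levels (by decide) hL).2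

end Cfsg.Agent.Helper19.Cox.E6
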