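import Cfsg.Agent.Helper19.Cox.Main

set_option autoImplicit false
set_option maxRecDepth 100000

/-! Certificate data for the Coxeter group of type E7 (generated). -/

namespace Cfsg.Agent.Helper19.Cox.E7

open Cfsg.Agent.Helper19.Cox

def MxL : List (List ℕ) :=
   [[1, 2, 3, 2, 2, 2, 2],
    [2, 1, 2, 3, 2, 2, 2],
    [3, 2, 1, 3, 2, 2, 2],
    [2, 3, 3, 1, 3, 2, 2],
    [2, 2, 2, 3, 1, 3, 2],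
    [2, 2, 2, 2, 3, 1, 3],
    [2, 2, 2, 2, 2, 3, 1]]

def Mx (a b : ℕ) : ℕ := (MxL.getD a []).getD b 0

def T : List ℕ :=
   [31342649487502986868132317684289072390822680273869027032840541028919068059728415745328453568828575724893966900578795934411092092923180,
    128254914322163375539784861277673230132768189318227915273138766232666073876754810327040699653020819009582827611598061607427392879594250,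
    156635961311183894671847976043485640511706631166713748062198251051195523608499059877378062044744933255094775614555915250079861357808640,
    139722676177031632821214155031982757064027899771595393273781028721570502194274707960961524910829609557083820448393734181088404088946950,
    156757958777066868529827193743407333381341660807062070220221265781617799446391154938645852342521906502810111922197794360456618853925120,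
    156757958609156080215489450671933436735791810612851327004194309758017690568313303160540259951159509139675879816356523611362394953089280,
    156757915623991709668669083073527008242143127692886380537621660485503969506274795024556836254467570947542219720449046787618866689409280]

def reps1 : List (List ℕ) :=
   [[],
    [0]]

def steps1_0 : List Step :=
  [(0, 0, 0, 1)]

def level1 : Level := (reps1, steps1_0, 0)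

def reps2 : List (List ℕ) :=
   [[],
    [1]]

def steps2_0 : List Step :=
  [(0, 0, 1, 1), (1, 0, 0, 0), (2, 1, 0, 1)]

def level2 : Level := (reps2, steps2_0, 12)

def reps3 : List (List ℕ) :=
   [[],
    [2],
    [2, 0]]

def steps3_0 : List Step :=
  [(0, 0, 2, 1), (0, 1, 0, 2), (1, 0, 0, 0), (1, 1, 0, 0), (2, 0, 2, 2), (2, 2, 1, 1),
   (2, 0, 1, 2)]

def level3 : Level := (reps3, steps3_0, 20)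

def reps4 : List (List ℕ) :=
   [[],
    [3],
    [3, 1],
    [3, 2],
    [3, 1, 2],
    [3, 2, 0],
    [3, 1, 2, 0],
    [3, 1, 2, 3],
    [3, 1, 2, 0, 3],
    [3, 1, 2, 0, 3, 2]]

def steps4_0 : List Step :=
  [(0, 0, 3, 1), (0, 1, 1, 2), (0, 1, 2, 3), (0, 2, 2, 4), (0, 3, 0, 5), (0, 4, 0, 6),
   (0, 4, 3, 7), (0, 6, 3, 8), (0, 8, 2, 9), (1, 0, 0, 0), (1, 1, 0, 0), (1, 2, 0, 0),
   (2, 1, 3, 2), (2, 2, 1, 3), (2, 2, 3, 3), (2, 3, 0, 1), (2, 3, 0, 7), (2, 3, 1, 7),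
   (2, 3, 2, 7), (2, 0, 1, 5), (2, 0, 1, 8), (2, 0, 2, 5), (2, 0, 3, 5), (2, 1, 0, 2),
   (2, 1, 2, 6), (2, 2, 0, 9), (2, 2, 1, 9), (2, 2, 3, 9)]

def level4 : Level := (reps4, steps4_0, 24)

def reps5 : List (List ℕ) :=
   [[],
    [4],
    [4, 3],
    [4, 3, 1],
    [4, 3, 2],
    [4, 3, 1, 2],
    [4, 3, 2, 0],
    [4, 3, 1, 2, 0],
    [4, 3, 1, 2, 3],
    [4, 3, 1, 2, 0, 3],
    [4, 3, 1, 2, 3, 4],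
    [4, 3, 1, 2, 0, 3, 2],
    [4, 3, 1, 2, 0, 3, 4],
    [4, 3, 1, 2, 0, 3, 2, 4],
    [4, 3, 1, 2, 0, 3, 2, 4, 3],
    [4, 3, 1, 2, 0, 3, 2, 4, 3, 1]]

def steps5_0 : List Step :=
  [(0, 0, 4, 1), (0, 1, 3, 2), (0, 2, 1, 3), (0, 2, 2, 4), (0, 3, 2, 5), (0, 4, 0, 6),
   (0, 5, 0, 7), (0, 5, 3, 8), (0, 7, 3, 9), (0, 8, 4, 10), (0, 9, 2, 11), (0, 9, 4, 12),
   (0, 11, 4, 13), (0, 13, 3, 14), (0, 14, 1, 15), (1, 0, 0, 0), (1, 1, 0, 0), (1, 2, 0, 0),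
   (1, 3, 0, 0), (2, 2, 1, 4), (2, 3, 0, 8), (2, 3, 4, 2), (2, 4, 0, 1), (2, 4, 0, 10),
   (2, 4, 1, 1), (2, 4, 2, 1), (2, 4, 2, 12), (2, 0, 1, 6), (2, 1, 3, 3), (2, 1, 4, 3),
   (2, 2, 3, 4), (2, 2, 4, 4), (2, 2, 4, 5), (2, 3, 0, 2), (2, 3, 1, 8), (2, 3, 2, 8),
   (2, 4, 1, 10), (2, 4, 2, 10), (2, 4, 3, 10), (2, 0, 1, 9), (2, 0, 1, 12), (2, 0, 2, 6),
   (2, 0, 3, 6), (2, 0, 3, 12), (2, 0, 4, 6), (2, 0, 4, 7), (2, 1, 0, 3), (2, 1, 2, 7),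
   (2, 2, 0, 11), (2, 2, 0, 13), (2, 2, 1, 11), (2, 2, 1, 13), (2, 2, 3, 11), (2, 3, 0, 14),
   (2, 3, 2, 14), (2, 3, 4, 14), (2, 1, 0, 15), (2, 1, 2, 15), (2, 1, 3, 15), (2, 1, 4, 15)]

def level5 : Level := (reps5, steps5_0, 25)

def reps6 : List (List ℕ) :=
   [[],
    [5],
    [5, 4],
    [5, 4, 3],
    [5, 4, 3, 1],
    [5, 4, 3, 2],
    [5, 4, 3, 1, 2],
    [5, 4, 3, 2, 0],
    [5, 4, 3, 1, 2, 0],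
    [5, 4, 3, 1, 2, 3],
    [5, 4, 3, 1, 2, 0, 3],
    [5, 4, 3, 1, 2, 3, 4],
    [5, 4, 3, 1, 2, 0, 3, 2],
    [5, 4, 3, 1, 2, 0, 3, 4],
    [5, 4, 3, 1, 2, 3, 4, 5],
    [5, 4, 3, 1, 2, 0, 3, 2, 4],
    [5, 4, 3, 1, 2, 0, 3, 4, 5],
    [5, 4, 3, 1, 2, 0, 3, 2, 4, 3],
    [5, 4, 3, 1, 2, 0, 3, 2, 4, 5],
    [5, 4, 3, 1, 2, 0, 3, 2, 4, 3, 1],
    [5, 4, 3, 1, 2, 0, 3, 2, 4, 3, 5],
    [5, 4, 3, 1, 2, 0, 3, 2, 4, 3, 1, 5],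
    [5, 4, 3, 1, 2, 0, 3, 2, 4, 3, 5, 4],
    [5, 4, 3, 1, 2, 0, 3, 2, 4, 3, 1, 5, 4],
    [5, 4, 3, 1, 2, 0, 3, 2, 4, 3, 1, 5, 4, 3],
    [5, 4, 3, 1, 2, 0, 3, 2, 4, 3, 1, 5, 4, 3, 2],
    [5, 4, 3, 1, 2, 0, 3, 2, 4, 3, 1, 5, 4, 3, 2, 0]]

def steps6_0 : List Step :=
  [(0, 0, 5, 1), (0, 1, 4, 2), (0, 2, 3, 3), (0, 3, 1, 4), (0, 3, 2, 5), (0, 4, 2, 6),
   (0, 5, 0, 7), (0, 6, 0, 8), (0, 6, 3, 9), (0, 8, 3, 10), (0, 9, 4, 11), (0, 10, 2, 12),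
   (0, 10, 4, 13), (0, 11, 5, 14), (0, 12, 4, 15), (0, 13, 5, 16), (0, 15, 3, 17), (0, 15, 5, 18),
   (0, 17, 1, 19), (0, 17, 5, 20), (0, 19, 5, 21), (0, 20, 4, 22), (0, 21, 4, 23), (0, 23, 3, 24),
   (0, 24, 2, 25), (0, 25, 0, 26), (1, 0, 0, 0), (1, 1, 0, 0), (1, 2, 0, 0), (1, 3, 0, 0),
   (1, 4, 0, 0), (2, 2, 1, 5), (2, 3, 0, 9), (2, 4, 0, 11), (2, 4, 2, 13), (2, 4, 5, 2),
   (2, 5, 0, 1), (2, 5, 0, 14), (2, 5, 1, 1), (2, 5, 1, 20), (2, 5, 2, 1), (2, 5, 2, 16),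
   (2, 5, 3, 1), (2, 5, 3, 18), (2, 0, 1, 7), (2, 3, 4, 3), (2, 3, 5, 3), (2, 4, 0, 2),
   (2, 4, 1, 2), (2, 4, 1, 22), (2, 4, 2, 2), (2, 1, 3, 4), (2, 1, 4, 4), (2, 1, 5, 4),
   (2, 2, 3, 5), (2, 2, 4, 5), (2, 2, 4, 6), (2, 2, 5, 5), (2, 2, 5, 6), (2, 3, 0, 3),
   (2, 3, 1, 9), (2, 3, 2, 9), (2, 3, 5, 9), (2, 4, 1, 11), (2, 4, 2, 11), (2, 4, 3, 11),
   (2, 5, 1, 14), (2, 5, 2, 14), (2, 5, 3, 14), (2, 5, 4, 14), (2, 0, 1, 10), (2, 0, 1, 13),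
   (2, 0, 1, 16), (2, 0, 2, 7), (2, 0, 3, 7), (2, 0, 3, 13), (2, 0, 3, 16), (2, 0, 4, 7),
   (2, 0, 4, 8), (2, 0, 4, 16), (2, 0, 5, 7), (2, 0, 5, 8), (2, 0, 5, 10), (2, 1, 0, 4),
   (2, 1, 2, 8), (2, 2, 0, 12), (2, 2, 0, 15), (2, 2, 0, 18), (2, 2, 1, 12), (2, 2, 1, 15),
   (2, 2, 1, 18), (2, 2, 3, 12), (2, 2, 4, 18), (2, 2, 5, 12), (2, 3, 0, 17), (2, 3, 0, 20),
   (2, 3, 2, 17), (2, 3, 2, 20), (2, 3, 4, 17), (2, 4, 0, 22), (2, 4, 2, 22), (2, 4, 3, 22),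
   (2, 4, 5, 22), (2, 1, 0, 19), (2, 1, 0, 21), (2, 1, 0, 23), (2, 1, 2, 19), (2, 1, 2, 21),
   (2, 1, 2, 23), (2, 1, 3, 19), (2, 1, 3, 21), (2, 1, 4, 19), (2, 1, 5, 23), (2, 2, 3, 25),
   (2, 3, 0, 24), (2, 3, 1, 24), (2, 3, 4, 24), (2, 3, 5, 24), (2, 0, 2, 26), (2, 0, 3, 26),
   (2, 2, 1, 25), (2, 2, 4, 25), (2, 2, 5, 25), (2, 0, 1, 26), (2, 0, 4, 26), (2, 0, 5, 26)]

def level6 : Level := (reps6, steps6_0, 26)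

def reps7 : List (List ℕ) :=
   [[],
    [6],
    [6, 5],
    [6, 5, 4],
    [6, 5, 4, 3],
    [6, 5, 4, 3, 1],
    [6, 5, 4, 3, 2],
    [6, 5, 4, 3, 1, 2],
    [6, 5, 4, 3, 2, 0],
    [6, 5, 4, 3, 1, 2, 0],
    [6, 5, 4, 3, 1, 2, 3],
    [6, 5, 4, 3, 1, 2, 0, 3],
    [6, 5, 4, 3, 1, 2, 3, 4],
    [6, 5, 4, 3, 1, 2, 0, 3, 2],
    [6, 5, 4, 3, 1, 2, 0, 3, 4],
    [6, 5, 4, 3, 1, 2, 3, 4, 5],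
    [6, 5, 4, 3, 1, 2, 0, 3, 2, 4],
    [6, 5, 4, 3, 1, 2, 0, 3, 4, 5],
    [6, 5, 4, 3, 1, 2, 3, 4, 5, 6],
    [6, 5, 4, 3, 1, 2, 0, 3, 2, 4, 3],
    [6, 5, 4, 3, 1, 2, 0, 3, 2, 4, 5],
    [6, 5, 4, 3, 1, 2, 0, 3, 4, 5, 6],
    [6, 5, 4, 3, 1, 2, 0, 3, 2, 4, 3, 1],
    [6, 5, 4, 3, 1, 2, 0, 3, 2, 4, 3, 5],
    [6, 5, 4, 3, 1, 2, 0, 3, 2, 4, 5, 6],
    [6, 5, 4, 3, 1, 2, 0, 3, 2, 4, 3, 1, 5],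
    [6, 5, 4, 3, 1, 2, 0, 3, 2, 4, 3, 5, 4],
    [6, 5, 4, 3, 1, 2, 0, 3, 2, 4, 3, 5, 6],
    [6, 5, 4, 3, 1, 2, 0, 3, 2, 4, 3, 1, 5, 4],
    [6, 5, 4, 3, 1, 2, 0, 3, 2, 4, 3, 1, 5, 6],
    [6, 5, 4, 3, 1, 2, 0, 3, 2, 4, 3, 5, 4, 6],
    [6, 5, 4, 3, 1, 2, 0, 3, 2, 4, 3, 1, 5, 4, 3],
    [6, 5, 4, 3, 1, 2, 0, 3, 2, 4, 3, 1, 5, 4, 6],
    [6, 5, 4, 3, 1, 2, 0, 3, 2, 4, 3, 5, 4, 6, 5],
    [6, 5, 4, 3, 1, 2, 0, 3, 2, 4, 3, 1, 5, 4, 3, 2],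
    [6, 5, 4, 3, 1, 2, 0, 3, 2, 4, 3, 1, 5, 4, 3, 6],
    [6, 5, 4, 3, 1, 2, 0, 3, 2, 4, 3, 1, 5, 4, 6, 5],
    [6, 5, 4, 3, 1, 2, 0, 3, 2, 4, 3, 1, 5, 4, 3, 2, 0],
    [6, 5, 4, 3, 1, 2, 0, 3, 2, 4, 3, 1, 5, 4, 3, 2, 6],
    [6, 5, 4, 3, 1, 2, 0, 3, 2, 4, 3, 1, 5, 4, 3, 6, 5],
    [6, 5, 4, 3, 1, 2, 0, 3, 2, 4, 3, 1, 5, 4, 3, 2, 0, 6],
    [6, 5, 4, 3, 1, 2, 0, 3, 2, 4, 3, 1, 5, 4, 3, 2, 6, 5],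
    [6, 5, 4, 3, 1, 2, 0, 3, 2, 4, 3, 1, 5, 4, 3, 6, 5, 4],
    [6, 5, 4, 3, 1, 2, 0, 3, 2, 4, 3, 1, 5, 4, 3, 2, 0, 6, 5],
    [6, 5, 4, 3, 1, 2, 0, 3, 2, 4, 3, 1, 5, 4, 3, 2, 6, 5, 4],
    [6, 5, 4, 3, 1, 2, 0, 3, 2, 4, 3, 1, 5, 4, 3, 2, 0, 6, 5, 4],
    [6, 5, 4, 3, 1, 2, 0, 3, 2, 4, 3, 1, 5, 4, 3, 2, 6, 5, 4, 3],
    [6, 5, 4, 3, 1, 2, 0, 3, 2, 4, 3, 1, 5, 4, 3, 2, 0, 6, 5, 4, 3],
    [6, 5, 4, 3, 1, 2, 0, 3, 2, 4, 3, 1, 5, 4, 3, 2, 6, 5, 4, 3, 1],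
    [6, 5, 4, 3, 1, 2, 0, 3, 2, 4, 3, 1, 5, 4, 3, 2, 0, 6, 5, 4, 3, 1],
    [6, 5, 4, 3, 1, 2, 0, 3, 2, 4, 3, 1, 5, 4, 3, 2, 0, 6, 5, 4, 3, 2],
    [6, 5, 4, 3, 1, 2, 0, 3, 2, 4, 3, 1, 5, 4, 3, 2, 0, 6, 5, 4, 3, 1, 2],
    [6, 5, 4, 3, 1, 2, 0, 3, 2, 4, 3, 1, 5, 4, 3, 2, 0, 6, 5, 4, 3, 1, 2, 3],
    [6, 5, 4, 3, 1, 2, 0, 3, 2, 4, 3, 1, 5, 4, 3, 2, 0, 6, 5, 4, 3, 1, 2, 3, 4],
    [6, 5, 4, 3, 1, 2, 0, 3, 2, 4, 3, 1, 5, 4, 3, 2, 0, 6, 5, 4, 3, 1, 2, 3, 4, 5],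
    [6, 5, 4, 3, 1, 2, 0, 3, 2, 4, 3, 1, 5, 4, 3, 2, 0, 6, 5, 4, 3, 1, 2, 3, 4, 5, 6]]

def steps7_0 : List Step :=
  [(0, 0, 6, 1), (0, 1, 5, 2), (0, 2, 4, 3), (0, 3, 3, 4), (0, 4, 1, 5), (0, 4, 2, 6),
   (0, 5, 2, 7), (0, 6, 0, 8), (0, 7, 0, 9), (0, 7, 3, 10), (0, 9, 3, 11), (0, 10, 4, 12),
   (0, 11, 2, 13), (0, 11, 4, 14), (0, 12, 5, 15), (0, 13, 4, 16), (0, 14, 5, 17), (0, 15, 6, 18),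
   (0, 16, 3, 19), (0, 16, 5, 20), (0, 17, 6, 21), (0, 19, 1, 22), (0, 19, 5, 23), (0, 20, 6, 24),
   (0, 22, 5, 25), (0, 23, 4, 26), (0, 23, 6, 27), (0, 25, 4, 28), (0, 25, 6, 29), (0, 26, 6, 30),
   (0, 28, 3, 31), (0, 28, 6, 32), (0, 30, 5, 33), (0, 31, 2, 34), (0, 31, 6, 35), (0, 32, 5, 36),
   (0, 34, 0, 37), (0, 34, 6, 38), (0, 35, 5, 39), (0, 37, 6, 40), (0, 38, 5, 41), (0, 39, 4, 42),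
   (0, 40, 5, 43), (0, 41, 4, 44), (0, 43, 4, 45), (0, 44, 3, 46), (0, 45, 3, 47), (0, 46, 1, 48),
   (0, 47, 1, 49), (0, 47, 2, 50), (0, 49, 2, 51), (0, 51, 3, 52), (0, 52, 4, 53), (0, 53, 5, 54),
   (0, 54, 6, 55), (1, 0, 0, 0), (1, 1, 0, 0), (1, 2, 0, 0), (1, 3, 0, 0), (1, 4, 0, 0),
   (1, 5, 0, 0), (2, 2, 1, 6), (2, 2, 1, 50), (2, 3, 0, 10), (2, 4, 0, 12), (2, 4, 2, 14),
   (2, 5, 0, 15), (2, 5, 1, 23), (2, 5, 2, 17), (2, 5, 3, 20), (2, 5, 6, 2), (2, 6, 0, 1),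
   (2, 6, 0, 18), (2, 6, 0, 38), (2, 6, 1, 1), (2, 6, 1, 27), (2, 6, 2, 1), (2, 6, 2, 21),
   (2, 6, 2, 35), (2, 6, 3, 1), (2, 6, 3, 24), (2, 6, 3, 32), (2, 6, 4, 1), (2, 6, 4, 27),
   (2, 6, 4, 29), (2, 0, 1, 8), (2, 4, 1, 26), (2, 4, 1, 30), (2, 4, 5, 3), (2, 4, 6, 3),
   (2, 5, 0, 2), (2, 5, 0, 41), (2, 5, 1, 2), (2, 5, 1, 33), (2, 5, 2, 2), (2, 5, 2, 39),
   (2, 5, 3, 2), (2, 5, 3, 36), (2, 3, 4, 4), (2, 3, 5, 4), (2, 3, 6, 4), (2, 4, 0, 3),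
   (2, 4, 0, 44), (2, 4, 1, 3), (2, 4, 2, 3), (2, 4, 2, 42), (2, 1, 3, 5), (2, 1, 4, 5),
   (2, 1, 5, 5), (2, 1, 6, 5), (2, 2, 3, 6), (2, 2, 4, 6), (2, 2, 4, 7), (2, 2, 5, 6),
   (2, 2, 5, 7), (2, 2, 6, 6), (2, 2, 6, 7), (2, 3, 0, 4), (2, 3, 0, 46), (2, 3, 1, 10),
   (2, 3, 2, 10), (2, 3, 5, 10), (2, 3, 6, 10), (2, 4, 1, 12), (2, 4, 2, 12), (2, 4, 3, 12),
   (2, 4, 6, 12), (2, 5, 1, 15), (2, 5, 2, 15), (2, 5, 3, 15), (2, 5, 4, 15), (2, 6, 1, 18),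
   (2, 6, 2, 18), (2, 6, 3, 18), (2, 6, 4, 18), (2, 6, 5, 18), (2, 0, 1, 11), (2, 0, 1, 14),
   (2, 0, 1, 17), (2, 0, 1, 21), (2, 0, 2, 8), (2, 0, 3, 8), (2, 0, 3, 14), (2, 0, 3, 17),
   (2, 0, 3, 21), (2, 0, 4, 8), (2, 0, 4, 9), (2, 0, 4, 17), (2, 0, 4, 21), (2, 0, 5, 8),
   (2, 0, 5, 9), (2, 0, 5, 11), (2, 0, 5, 21), (2, 0, 6, 8), (2, 0, 6, 9), (2, 0, 6, 11),
   (2, 0, 6, 14), (2, 1, 0, 5), (2, 1, 0, 48), (2, 1, 2, 9), (2, 2, 0, 13), (2, 2, 0, 16),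
   (2, 2, 0, 20), (2, 2, 0, 24), (2, 2, 1, 13), (2, 2, 1, 16), (2, 2, 1, 20), (2, 2, 1, 24),
   (2, 2, 3, 13), (2, 2, 4, 20), (2, 2, 4, 24), (2, 2, 5, 13), (2, 2, 5, 24), (2, 2, 6, 13),
   (2, 2, 6, 16), (2, 3, 0, 19), (2, 3, 0, 23), (2, 3, 0, 27), (2, 3, 2, 19), (2, 3, 2, 23),
   (2, 3, 2, 27), (2, 3, 4, 19), (2, 3, 5, 27), (2, 3, 6, 19), (2, 4, 0, 26), (2, 4, 0, 30),
   (2, 4, 2, 26), (2, 4, 2, 30), (2, 4, 3, 26), (2, 4, 3, 30), (2, 4, 5, 26), (2, 5, 0, 33),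
   (2, 5, 2, 33), (2, 5, 3, 33), (2, 5, 4, 33), (2, 5, 6, 33), (2, 1, 0, 22), (2, 1, 0, 25),
   (2, 1, 0, 28), (2, 1, 0, 29), (2, 1, 0, 32), (2, 1, 0, 36), (2, 1, 2, 22), (2, 1, 2, 25),
   (2, 1, 2, 28), (2, 1, 2, 29), (2, 1, 2, 32), (2, 1, 2, 36), (2, 1, 3, 22), (2, 1, 3, 25),
   (2, 1, 3, 29), (2, 1, 4, 22), (2, 1, 4, 36), (2, 1, 5, 28), (2, 1, 5, 29), (2, 1, 6, 22),
   (2, 1, 6, 36), (2, 2, 3, 34), (2, 2, 3, 38), (2, 2, 3, 41), (2, 3, 0, 31), (2, 3, 0, 35),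
   (2, 3, 0, 39), (2, 3, 1, 31), (2, 3, 1, 35), (2, 3, 1, 39), (2, 3, 4, 31), (2, 3, 4, 35),
   (2, 3, 4, 46), (2, 3, 5, 31), (2, 3, 6, 39), (2, 4, 0, 42), (2, 4, 1, 42), (2, 4, 3, 42),
   (2, 4, 5, 42), (2, 4, 6, 42), (2, 0, 2, 37), (2, 0, 2, 40), (2, 0, 2, 43), (2, 0, 2, 45),
   (2, 0, 3, 37), (2, 0, 3, 40), (2, 0, 3, 43), (2, 0, 4, 47), (2, 1, 4, 48), (2, 1, 4, 49),
   (2, 2, 1, 34), (2, 2, 1, 38), (2, 2, 1, 41), (2, 2, 1, 44), (2, 2, 3, 50), (2, 2, 4, 34)]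

def steps7_1 : List Step :=
  [(2, 2, 3, 50), (2, 2, 4, 34), (2, 2, 4, 38), (2, 2, 4, 50), (2, 2, 4, 51), (2, 2, 5, 34),
   (2, 2, 5, 44), (2, 2, 6, 41), (2, 2, 6, 44), (2, 3, 1, 52), (2, 3, 2, 46), (2, 3, 5, 46),
   (2, 3, 6, 46), (2, 4, 1, 53), (2, 4, 3, 53), (2, 5, 1, 54), (2, 5, 3, 54), (2, 6, 1, 55),
   (2, 6, 3, 55), (2, 0, 1, 37), (2, 0, 1, 40), (2, 0, 1, 43), (2, 0, 1, 45), (2, 0, 4, 37),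
   (2, 0, 4, 40), (2, 0, 5, 37), (2, 0, 5, 45), (2, 0, 5, 47), (2, 0, 6, 43), (2, 0, 6, 45),
   (2, 0, 6, 47), (2, 1, 2, 48), (2, 1, 3, 48), (2, 1, 3, 49), (2, 1, 5, 48), (2, 1, 5, 49),
   (2, 1, 6, 48), (2, 1, 6, 49), (2, 2, 0, 50), (2, 2, 0, 51), (2, 2, 5, 50), (2, 2, 5, 51),
   (2, 2, 6, 50), (2, 2, 6, 51), (2, 3, 0, 52), (2, 3, 2, 52), (2, 3, 5, 52), (2, 3, 6, 52),
   (2, 4, 0, 53), (2, 4, 2, 53), (2, 4, 6, 53), (2, 5, 0, 54), (2, 5, 2, 54), (2, 5, 4, 54),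
   (2, 6, 0, 55), (2, 6, 2, 55), (2, 6, 4, 55), (2, 6, 5, 55)]

def level7 : Level := (reps7, steps7_0 ++ steps7_1, 27)

def levels : List Level := [level1, level2, level3, level4, level5, level6, level7]

theorem hMx' : ∀ a b : Fin 7, (CoxeterMatrix.E₇) a b = Mx a.1 b.1 := by
  intro a b; fin_cases a <;> fin_cases b <;> rfl

theorem hMx : ∀ a b (ha : a < 7) (hb : b < 7), (CoxeterMatrix.E₇) ⟨a, ha⟩ ⟨b, hb⟩ = Mx a b :=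
  fun a b ha hb => hMx' ⟨a, ha⟩ ⟨b, hb⟩

theorem hI : checkInvol T 7 56 = true := by decide +kernel

theorem hB : checkBraid Mx T 7 56 = true := by decide +kernel

theorem hL : checkLevels Mx T 7 56 0 levels = true := by decide +kernel

theorem hprod : (levels.map fun lv => lv.1.length).prod = 2903040 := by decide +kernel

theorem card_eq : Nat.card (CoxeterMatrix.E₇).Group = 2903040 := by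
  rw [← hprod]
  exact (main (CoxeterMatrix.E₇) Mx hI hB hMx levels (by decide) hL).1

theorem phi_injective : Function.Injective (phi (CoxeterMatrix.E₇) Mx hI hB hMx) :=
  (main (CoxeterMatrix.E₇) Mx hI hB hMx levels (by decide) hL).2

end Cfsg.Agent.Helper19.Cox.E7
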