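import Cfsg.Agent.Helper19.Cox.Main

set_option autoImplicit false
set_option maxRecDepth 100000

/-! Certificate data for the Coxeter group of type F4 (generated). -/

namespace Cfsg.Agent.Helper19.Cox.F4

open Cfsg.Agent.Helper19.Cox

def MxL : List (List ℕ) :=
   [[1, 3, 2, 2],
    [3, 1, 4, 2],
    [2, 4, 1, 3],
    [2, 2, 3, 1]]

def Mx (a b : ℕ) : ℕ := (MxL.getD a []).getD b 0

def T : List ℕ :=
   [4480406517741505910378533406505879033310478098394491751519880085859385043765823642939920982937649944396636655456023,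
    7261724574562961587597911342517283510909526670986957227059508234487263535861320585779496801607403605483837613801473,
    7260517469724984394858240832878105762004772168705096753309766332511765678788968938924132603299051723346012994143488,
    7108411742353699265298633678513783821894598684839453306536128431894295094817828192614013276511289595863133092708608]

def reps1 : List (List ℕ) :=
   [[],
    [0]]

def steps1_0 : List Step :=
  [(0, 0, 0, 1)]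

def level1 : Level := (reps1, steps1_0, 0)

def reps2 : List (List ℕ) :=
   [[],
    [1],
    [1, 0]]

def steps2_0 : List Step :=
  [(0, 0, 1, 1), (0, 1, 0, 2), (1, 0, 0, 0), (2, 0, 1, 2)]

def level2 : Level := (reps2, steps2_0, 9)

def reps3 : List (List ℕ) :=
   [[],
    [2],
    [2, 1],
    [2, 1, 0],
    [2, 1, 2],
    [2, 1, 0, 2],
    [2, 1, 0, 2, 1],
    [2, 1, 0, 2, 1, 2]]

def steps3_0 : List Step :=
  [(0, 0, 2, 1), (0, 1, 1, 2), (0, 2, 0, 3), (0, 2, 2, 4), (0, 3, 2, 5), (0, 5, 1, 6),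
   (0, 6, 2, 7), (1, 0, 0, 0), (1, 1, 0, 0), (2, 2, 0, 1), (2, 2, 0, 4), (2, 2, 1, 4),
   (2, 0, 1, 3), (2, 1, 0, 6), (2, 2, 0, 7), (2, 2, 1, 7)]

def level3 : Level := (reps3, steps3_0, 33)

def reps4 : List (List ℕ) :=
   [[],
    [3],
    [3, 2],
    [3, 2, 1],
    [3, 2, 1, 0],
    [3, 2, 1, 2],
    [3, 2, 1, 0, 2],
    [3, 2, 1, 2, 3],
    [3, 2, 1, 0, 2, 1],
    [3, 2, 1, 0, 2, 3],
    [3, 2, 1, 0, 2, 1, 2],
    [3, 2, 1, 0, 2, 1, 3],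
    [3, 2, 1, 0, 2, 1, 2, 3],
    [3, 2, 1, 0, 2, 1, 3, 2],
    [3, 2, 1, 0, 2, 1, 2, 3, 2],
    [3, 2, 1, 0, 2, 1, 3, 2, 1],
    [3, 2, 1, 0, 2, 1, 2, 3, 2, 1],
    [3, 2, 1, 0, 2, 1, 3, 2, 1, 0],
    [3, 2, 1, 0, 2, 1, 2, 3, 2, 1, 0],
    [3, 2, 1, 0, 2, 1, 2, 3, 2, 1, 2],
    [3, 2, 1, 0, 2, 1, 2, 3, 2, 1, 0, 2],
    [3, 2, 1, 0, 2, 1, 2, 3, 2, 1, 0, 2, 1],
    [3, 2, 1, 0, 2, 1, 2, 3, 2, 1, 0, 2, 1, 2],
    [3, 2, 1, 0, 2, 1, 2, 3, 2, 1, 0, 2, 1, 2, 3]]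

def steps4_0 : List Step :=
  [(0, 0, 3, 1), (0, 1, 2, 2), (0, 2, 1, 3), (0, 3, 0, 4), (0, 3, 2, 5), (0, 4, 2, 6),
   (0, 5, 3, 7), (0, 6, 1, 8), (0, 6, 3, 9), (0, 8, 2, 10), (0, 8, 3, 11), (0, 10, 3, 12),
   (0, 11, 2, 13), (0, 12, 2, 14), (0, 13, 1, 15), (0, 14, 1, 16), (0, 15, 0, 17), (0, 16, 0, 18),
   (0, 16, 2, 19), (0, 18, 2, 20), (0, 20, 1, 21), (0, 21, 2, 22), (0, 22, 3, 23), (1, 0, 0, 0),
   (1, 1, 0, 0), (1, 2, 0, 0), (2, 2, 0, 5), (2, 2, 0, 19), (2, 2, 3, 2), (2, 2, 3, 13),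
   (2, 3, 0, 1), (2, 3, 0, 7), (2, 3, 1, 1), (2, 3, 1, 9), (2, 1, 3, 3), (2, 1, 3, 15),
   (2, 2, 0, 2), (2, 2, 1, 5), (2, 3, 1, 7), (2, 3, 2, 7), (2, 0, 1, 4), (2, 0, 2, 9),
   (2, 0, 3, 4), (2, 0, 3, 17), (2, 1, 0, 8), (2, 1, 0, 11), (2, 1, 2, 15), (2, 2, 0, 10),
   (2, 2, 0, 13), (2, 2, 1, 10), (2, 2, 3, 19), (2, 3, 0, 12), (2, 3, 0, 14), (2, 3, 1, 12),
   (2, 0, 1, 17), (2, 0, 1, 18), (2, 0, 2, 17), (2, 0, 3, 20), (2, 1, 3, 21), (2, 2, 1, 19),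
   (2, 2, 1, 22), (2, 3, 1, 23), (2, 3, 2, 23), (2, 1, 0, 21), (2, 2, 0, 22), (2, 3, 0, 23)]

def level4 : Level := (reps4, steps4_0, 35)

def levels : List Level := [level1, level2, level3, level4]

theorem hMx' : ∀ a b : Fin 4, (CoxeterMatrix.F₄) a b = Mx a.1 b.1 := by
  intro a b; fin_cases a <;> fin_cases b <;> rfl

theorem hMx : ∀ a b (ha : a < 4) (hb : b < 4), (CoxeterMatrix.F₄) ⟨a, ha⟩ ⟨b, hb⟩ = Mx a b :=
  fun a b ha hb => hMx' ⟨a, ha⟩ ⟨b, hb⟩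

theorem hI : checkInvol T 4 48 = true := by decide +kernel

theorem hB : checkBraid Mx T 4 48 = true := by decide +kernel

theorem hL : checkLevels Mx T 4 48 0 levels = true := by decide +kernel

theorem hprod : (levels.map fun lv => lv.1.length).prod = 1152 := by decide +kernel

theorem card_eq : Nat.card (CoxeterMatrix.F₄).Group = 1152 := by
  rw [← hprod]
  exact (main (CoxeterMatrix.F₄) Mx hI hB hMx levels (by decide) hL).1

theorem phi_injective : Function.Injective (phi (CoxeterMatrix.F₄) Mx hI hB hMx) :=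
  (main (CoxeterMatrix.F₄) Mx hI hB hMx levels (by decide) hL).2

end Cfsg.Agent.Helper19.Cox.F4
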