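import Cfsg.Agent.Helper19.Cox.Main

set_option autoImplicit false
set_option maxRecDepth 100000

/-! Certificate data for the Coxeter group of type G2 (generated). -/

namespace Cfsg.Agent.Helper19.Cox.G2

open Cfsg.Agent.Helper19.Cox

def MxL : List (List ℕ) :=
   [[1, 6],
    [6, 1]]

def Mx (a b : ℕ) : ℕ := (MxL.getD a []).getD b 0

def T : List ℕ :=
   [2173691273334849965396329221,
    2793879626564013987497050371]

def reps1 : List (List ℕ) :=
   [[],
    [0]]

def steps1_0 : List Step :=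
  [(0, 0, 0, 1)]

def level1 : Level := (reps1, steps1_0, 0)

def reps2 : List (List ℕ) :=
   [[],
    [1],
    [1, 0],
    [1, 0, 1],
    [1, 0, 1, 0],
    [1, 0, 1, 0, 1]]

def steps2_0 : List Step :=
  [(0, 0, 1, 1), (0, 1, 0, 2), (0, 2, 1, 3), (0, 3, 0, 4), (0, 4, 1, 5), (1, 0, 0, 0),
   (2, 1, 0, 5)]

def level2 : Level := (reps2, steps2_0, 8)

def levels : List Level := [level1, level2]

theorem hMx' : ∀ a b : Fin 2, (CoxeterMatrix.G₂) a b = Mx a.1 b.1 := by
  intro a b; fin_cases a <;> fin_cases b <;> rfl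

theorem hMx : ∀ a b (ha : a < 2) (hb : b < 2), (CoxeterMatrix.G₂) ⟨a, ha⟩ ⟨b, hb⟩ = Mx a b :=
  fun a b ha hb => hMx' ⟨a, ha⟩ ⟨b, hb⟩

theorem hI : checkInvol T 2 12 = true := by decide +kernel

theorem hB : checkBraid Mx T 2 12 = true := by decide +kernel

theorem hL : checkLevels Mx T 2 12 0 levels = true := by decide +kernel

theorem hprod : (levels.map fun lv => lv.1.length).prod = 12 := by decide +kernel

theorem card_eq : Nat.card (CoxeterMatrix.G₂).Group = 12 := by
  rw [← hprod]
  exact (main (CoxeterMatrix.G₂) Mx hI hB hMx levels (by decide) hL).1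

theorem phi_injective : Function.Injective (phi (CoxeterMatrix.G₂) Mx hI hB hMx) :=
  (main (CoxeterMatrix.G₂) Mx hI hB hMx levels (by decide) hL).2

end Cfsg.Agent.Helper19.Cox.G2
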