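import Cfsg.Agent.Helper19.Cox.Table

set_option autoImplicit false

/-!
A permutation action of a Coxeter group given by tables, used to bound its order from below and
to detect the kernel.
-/

namespace Cfsg.Agent.Helper19.Cox

open CoxeterSystem

/-- action of generator `i` on the point `x` -/
def tact (T : List ℕ) (n d i x : ℕ) : ℕ :=
  if i < n ∧ x < d then byteAt (T.getD i 0) x else x

/-- action of a word -/
def actW (T : List ℕ) (n d : ℕ) (w : List ℕ) (x : ℕ) : ℕ := w.foldr (tact T n d) x

def checkInvol (T : List ℕ) (n d : ℕ) : Bool :=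
  (List.range n).all fun i => (List.range d).all fun x =>
    decide (tact T n d i (tact T n d i x) = x)

def checkBraid (Mx : ℕ → ℕ → ℕ) (T : List ℕ) (n d : ℕ) : Bool :=
  (List.range n).all fun i => (List.range n).all fun j => (List.range d).all fun x =>
    decide ((fun y => tact T n d i (tact T n d j y))^[Mx i j] x = x)

def nodupB : List ℕ → Bool
  | [] => true
  | a :: l => !(l.contains a) && nodupB l

theorem nodupB_sound : ∀ l : List ℕ, nodupB l = true → l.Nodup
  | [], _ => List.nodup_nil
  | a :: l, h => by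
    simp only [nodupB, Bool.and_eq_true, Bool.not_eq_eq_eq_not, Bool.not_true] at h
    rw [List.nodup_cons]
    refine ⟨?_, nodupB_sound l h.2⟩
    intro hmem
    have : l.contains a = true := List.contains_iff_mem.mpr hmem
    rw [h.1] at this
    exact absurd this (by simp)

theorem tact_invol {T : List ℕ} {n d : ℕ} (h : checkInvol T n d = true) (i : ℕ) :
    Function.Involutive (tact T n d i) := by
  intro x
  by_cases hc : i < n ∧ x < d
  · unfold checkInvol at h
    rw [List.all_eq_true] at h
    have h1 := h i (List.mem_range.mpr hc.1)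
    rw [List.all_eq_true] at h1
    exact of_decide_eq_true (h1 x (List.mem_range.mpr hc.2))
  · have : tact T n d i x = x := by unfold tact; rw [if_neg hc]
    rw [this, this]

/-- generator `i` as a permutation of `ℕ` -/
def tperm {T : List ℕ} {n d : ℕ} (h : checkInvol T n d = true) (i : ℕ) : Equiv.Perm ℕ :=
  (tact_invol h i).toPerm

theorem tperm_apply {T : List ℕ} {n d : ℕ} (h : checkInvol T n d = true) (i x : ℕ) :
    tperm h i x = tact T n d i x := rfl

theorem tact_of_not_lt {T : List ℕ} {n d i x : ℕ} (h : ¬ x < d) : tact T n d i x = x := by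
  unfold tact; rw [if_neg (fun hc => h hc.2)]

section Hom

variable {n : ℕ} (M : CoxeterMatrix (Fin n)) {T : List ℕ} {d : ℕ} (Mx : ℕ → ℕ → ℕ)

theorem liftable (hI : checkInvol T n d = true) (hB : checkBraid Mx T n d = true)
    (hMx : ∀ a b (ha : a < n) (hb : b < n), M ⟨a, ha⟩ ⟨b, hb⟩ = Mx a b) :
    M.IsLiftable (fun i : Fin n => tperm hI i.1) := by
  intro i j
  apply Equiv.ext
  intro x
  rw [Equiv.Perm.coe_pow, Equiv.Perm.one_apply, hMx i.1 j.1 i.2 j.2]
  have hfun : ⇑(tperm hI i.1 * tperm hI j.1) = fun y => tact T n d i.1 (tact T n d j.1 y) := by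
    funext y; rfl
  rw [hfun]
  by_cases hx : x < d
  · unfold checkBraid at hB
    rw [List.all_eq_true] at hB
    have h1 := hB i.1 (List.mem_range.mpr i.2)
    rw [List.all_eq_true] at h1
    have h2 := h1 j.1 (List.mem_range.mpr j.2)
    rw [List.all_eq_true] at h2
    exact of_decide_eq_true (h2 x (List.mem_range.mpr hx))
  · apply Function.iterate_fixed
    show tact T n d i.1 (tact T n d j.1 x) = x
    rw [tact_of_not_lt hx, tact_of_not_lt hx]

/-- the permutation representation -/
noncomputable def phi (hI : checkInvol T n d = true) (hB : checkBraid Mx T n d = true)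
    (hMx : ∀ a b (ha : a < n) (hb : b < n), M ⟨a, ha⟩ ⟨b, hb⟩ = Mx a b) :
    M.Group →* Equiv.Perm ℕ :=
  M.toCoxeterSystem.lift ⟨_, liftable M Mx hI hB hMx⟩

variable (hI : checkInvol T n d = true) (hB : checkBraid Mx T n d = true)
    (hMx : ∀ a b (ha : a < n) (hb : b < n), M ⟨a, ha⟩ ⟨b, hb⟩ = Mx a b)

theorem phi_sg (i x : ℕ) : phi M Mx hI hB hMx (sg M i) x = tact T n d i x := by
  by_cases h : i < n
  · rw [sg_of_lt M h, phi, lift_apply_simple]
    rfl
  · rw [sg_of_not_lt M h, map_one, Equiv.Perm.one_apply]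
    unfold tact
    rw [if_neg (fun hc => h hc.1)]

theorem phi_gp (w : List ℕ) (x : ℕ) : phi M Mx hI hB hMx (gp M w) x = actW T n d w x := by
  induction w with
  | nil => simp [actW]
  | cons i w ih =>
    rw [gp_cons, map_mul, Equiv.Perm.mul_apply, ih, phi_sg]
    rfl

theorem phi_fix_of_mem_Wsub {k x : ℕ} (hfix : ∀ i < k, tact T n d i x = x) :
    ∀ g ∈ Wsub M k, phi M Mx hI hB hMx g x = x := by
  intro g hg
  induction hg using Subgroup.closure_induction with
  | mem y hy =>
    obtain ⟨i, hi, rfl⟩ := hy
    rw [phi_sg]; exact hfix i hi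
  | one => simp
  | mul a b _ _ iha ihb => rw [map_mul, Equiv.Perm.mul_apply, ihb, iha]
  | inv a _ iha =>
    rw [map_inv, Equiv.Perm.inv_eq_iff_eq, iha]

end Hom

/-- the lower bound check at level `k` with base point `x` -/
def checkLower (T : List ℕ) (n d k : ℕ) (reps : List (List ℕ)) (x : ℕ) : Bool :=
  ((List.range (k - 1)).all fun i => decide (tact T n d i x = x)) &&
    nodupB (reps.map fun r => actW T n d r.reverse x) &&
    reps.all fun r => r.all fun i => decide (i < k)

section Lower

variable {n : ℕ} (M : CoxeterMatrix (Fin n)) {T : List ℕ} {d : ℕ} (Mx : ℕ → ℕ → ℕ)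
  (hI : checkInvol T n d = true) (hB : checkBraid Mx T n d = true)
  (hMx : ∀ a b (ha : a < n) (hb : b < n), M ⟨a, ha⟩ ⟨b, hb⟩ = Mx a b)
  {k : ℕ} {reps : List (List ℕ)} {x : ℕ}

theorem checkLower_fix (h : checkLower T n d k reps x = true) :
    ∀ g ∈ Wsub M (k - 1), phi M Mx hI hB hMx g x = x := by
  apply phi_fix_of_mem_Wsub
  intro i hi
  unfold checkLower at h
  simp only [Bool.and_eq_true] at h
  have h1 := h.1.1
  rw [List.all_eq_true] at h1
  exact of_decide_eq_true (h1 i (List.mem_range.mpr hi))

theorem checkLower_mem (h : checkLower T n d k reps x = true) (c : ℕ) :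
    rp M reps c ∈ Wsub M k := by
  unfold checkLower at h
  simp only [Bool.and_eq_true] at h
  have h1 := h.2
  rw [List.all_eq_true] at h1
  apply gp_mem_Wsub
  intro i hi
  by_cases hc : c < reps.length
  · have hmem : reps.getD c [] ∈ reps := by
      rw [List.getD_eq_getElem?_getD, List.getElem?_eq_getElem hc]
      simp
    have h2 := h1 _ hmem
    rw [List.all_eq_true] at h2
    exact of_decide_eq_true (h2 i hi)
  · rw [List.getD_eq_getElem?_getD, List.getElem?_eq_none (by omega)] at hi
    simp at hi

/-- the point attached to the coset `c` -/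
def pt (T : List ℕ) (n d : ℕ) (reps : List (List ℕ)) (x c : ℕ) : ℕ :=
  actW T n d (reps.getD c []).reverse x

theorem pt_inj (h : checkLower T n d k reps x = true) {c c' : ℕ} (hc : c < reps.length)
    (hc' : c' < reps.length) (he : pt T n d reps x c = pt T n d reps x c') : c = c' := by
  unfold checkLower at h
  simp only [Bool.and_eq_true] at h
  have hnd := nodupB_sound _ h.1.2
  have hlen : (reps.map fun r => actW T n d r.reverse x).length = reps.length := List.length_map _
  have e1 : (reps.map fun r => actW T n d r.reverse x)[c]'(by rw [hlen]; exact hc) =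
      pt T n d reps x c := by
    unfold pt
    rw [List.getElem_map, List.getD_eq_getElem?_getD, List.getElem?_eq_getElem hc]
    rfl
  have e2 : (reps.map fun r => actW T n d r.reverse x)[c']'(by rw [hlen]; exact hc') =
      pt T n d reps x c' := by
    unfold pt
    rw [List.getElem_map, List.getD_eq_getElem?_getD, List.getElem?_eq_getElem hc']
    rfl
  exact (List.Nodup.getElem_inj_iff hnd).mp (by rw [e1, e2, he])

theorem phi_inv_pt (h : checkLower T n d k reps x = true) {g : M.Group} (hg : g ∈ Wsub M (k - 1))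
    (c : ℕ) : (phi M Mx hI hB hMx (g * rp M reps c))⁻¹ x = pt T n d reps x c := by
  rw [map_mul, mul_inv_rev, Equiv.Perm.mul_apply]
  have h1 : (phi M Mx hI hB hMx g)⁻¹ x = x := by
    rw [Equiv.Perm.inv_eq_iff_eq, checkLower_fix M Mx hI hB hMx h g hg]
  rw [h1, ← map_inv, rp, ← gp_reverse, phi_gp]
  rfl

include Mx hI hB hMx in
theorem lower_inj (h : checkLower T n d k reps x = true) {g g' : M.Group}
    (hg : g ∈ Wsub M (k - 1)) (hg' : g' ∈ Wsub M (k - 1)) {c c' : ℕ} (hc : c < reps.length)
    (hc' : c' < reps.length) (he : g * rp M reps c = g' * rp M reps c') : c = c' ∧ g = g' := by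
  have h1 := phi_inv_pt M Mx hI hB hMx h hg c
  have h2 := phi_inv_pt M Mx hI hB hMx h hg' c'
  rw [he, h2] at h1
  have hcc := pt_inj h hc hc' h1.symm
  subst hcc
  exact ⟨rfl, mul_right_cancel he⟩

include Mx hI hB hMx in
theorem card_lower (h : checkLower T n d k reps x = true) [Finite (Wsub M k)] (hk : 1 ≤ k) :
    reps.length * Nat.card (Wsub M (k - 1)) ≤ Nat.card (Wsub M k) := by
  have hle : Wsub M (k - 1) ≤ Wsub M k := Wsub_mono M (by omega)
  let f : Fin reps.length × Wsub M (k - 1) → Wsub M k := fun p =>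
    ⟨(p.2 : M.Group) * rp M reps p.1, Subgroup.mul_mem _ (hle p.2.2) (checkLower_mem M h _)⟩
  have hf : Function.Injective f := by
    rintro ⟨c, g⟩ ⟨c', g'⟩ he
    have he' : (g : M.Group) * rp M reps c = (g' : M.Group) * rp M reps c' :=
      congrArg Subtype.val he
    obtain ⟨h1, h2⟩ := lower_inj M Mx hI hB hMx h g.2 g'.2 c.2 c'.2 he'
    exact Prod.ext (Fin.ext h1) (Subtype.ext h2)
  have := Nat.card_le_card_of_injective f hf
  rwa [Nat.card_prod, Nat.card_fin] at this

end Lower

end Cfsg.Agent.Helper19.Cox
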