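import Mathlib

set_option autoImplicit false

/-!
Coxeter groups `M.Group` for `M : CoxeterMatrix (Fin n)`: generators indexed by `ℕ`, words as
`List ℕ`, the chain of parabolic subgroups generated by initial segments of the generators, and
the coset covering lemma.
-/

namespace Cfsg.Agent.Helper19.Cox

open CoxeterSystem

variable {n : ℕ} (M : CoxeterMatrix (Fin n))

/-- The `i`-th simple reflection (`1` if `i ≥ n`). -/
noncomputable def sg (i : ℕ) : M.Group := if h : i < n then M.simple ⟨i, h⟩ else 1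

theorem sg_of_lt {i : ℕ} (h : i < n) : sg M i = M.toCoxeterSystem.simple ⟨i, h⟩ := by
  rw [sg, dif_pos h, CoxeterMatrix.toCoxeterSystem_simple]

theorem sg_of_not_lt {i : ℕ} (h : ¬ i < n) : sg M i = 1 := by
  rw [sg, dif_neg h]

theorem sg_mul_self (i : ℕ) : sg M i * sg M i = 1 := by
  by_cases h : i < n
  · rw [sg_of_lt M h]; exact M.toCoxeterSystem.simple_mul_simple_self _
  · rw [sg_of_not_lt M h, one_mul]

theorem sg_inv (i : ℕ) : (sg M i)⁻¹ = sg M i :=
  inv_eq_of_mul_eq_one_left (sg_mul_self M i)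

theorem sg_mul_sg_pow {a b : ℕ} (ha : a < n) (hb : b < n) :
    (sg M a * sg M b) ^ M ⟨a, ha⟩ ⟨b, hb⟩ = 1 := by
  rw [sg_of_lt M ha, sg_of_lt M hb]
  exact M.toCoxeterSystem.simple_mul_simple_pow _ _

/-- The product of a word. -/
noncomputable def gp (w : List ℕ) : M.Group := (w.map (sg M)).prod

@[simp] theorem gp_nil : gp M [] = 1 := by simp [gp]

@[simp] theorem gp_cons (i : ℕ) (w : List ℕ) : gp M (i :: w) = sg M i * gp M w := by simp [gp]

theorem gp_append (w w' : List ℕ) : gp M (w ++ w') = gp M w * gp M w' := by simp [gp]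

theorem gp_singleton (i : ℕ) : gp M [i] = sg M i := by simp [gp]

theorem gp_reverse (w : List ℕ) : gp M w.reverse = (gp M w)⁻¹ := by
  induction w with
  | nil => simp
  | cons i w ih =>
    rw [List.reverse_cons, gp_append, ih, gp_singleton, gp_cons, mul_inv_rev, sg_inv]

/-- The parabolic subgroup generated by the first `k` simple reflections. -/
def Wsub (k : ℕ) : Subgroup M.Group := Subgroup.closure {g | ∃ i, i < k ∧ g = sg M i}

theorem sg_mem_Wsub {i k : ℕ} (h : i < k) : sg M i ∈ Wsub M k :=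
  Subgroup.subset_closure ⟨i, h, rfl⟩

theorem Wsub_mono {k k' : ℕ} (h : k ≤ k') : Wsub M k ≤ Wsub M k' := by
  apply Subgroup.closure_mono
  rintro g ⟨i, hi, rfl⟩
  exact ⟨i, lt_of_lt_of_le hi h, rfl⟩

theorem Wsub_zero : Wsub M 0 = ⊥ := by
  rw [Wsub, Subgroup.closure_eq_bot_iff]
  rintro g ⟨i, hi, rfl⟩
  exact absurd hi (Nat.not_lt_zero i)

theorem Wsub_top : Wsub M n = ⊤ := by
  rw [eq_top_iff, ← M.toCoxeterSystem.subgroup_closure_range_simple]
  apply Subgroup.closure_mono
  rintro g ⟨i, rfl⟩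
  exact ⟨i.1, i.2, (sg_of_lt M i.2).symm⟩

theorem gp_mem_Wsub {w : List ℕ} {k : ℕ} (h : ∀ i ∈ w, i < k) : gp M w ∈ Wsub M k := by
  induction w with
  | nil => simp
  | cons i w ih =>
    rw [gp_cons]
    exact Subgroup.mul_mem _ (sg_mem_Wsub M (h i (by simp)))
      (ih (fun j hj => h j (by simp [hj])))

/-- The covering lemma: if right multiplication by the first `k` generators permutes the cosets
`H r_c` (`c < m`) of `H = Wsub (k - 1)` (or any subgroup), then these cosets cover `Wsub k`. -/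
theorem cover (H : Subgroup M.Group) (k m : ℕ) (rep : ℕ → M.Group) (h0 : 0 < m) (hrep0 : rep 0 = 1)
    (htab : ∀ c < m, ∀ i < k, ∃ c' < m, rep c * sg M i * (rep c')⁻¹ ∈ H) :
    ∀ g ∈ Wsub M k, ∃ c < m, ∃ h ∈ H, g = h * rep c := by
  intro g hg
  have hstep : ∀ x : M.Group, (∃ c < m, ∃ h ∈ H, x = h * rep c) → ∀ i < k,
      ∃ c < m, ∃ h ∈ H, x * sg M i = h * rep c := by
    rintro x ⟨c, hc, h, hh, rfl⟩ i hi
    obtain ⟨c', hc', hmem⟩ := htab c hc i hi
    refine ⟨c', hc', h * (rep c * sg M i * (rep c')⁻¹), H.mul_mem hh hmem, ?_⟩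
    group
  induction hg using Subgroup.closure_induction_right with
  | one => exact ⟨0, h0, 1, H.one_mem, by rw [hrep0, one_mul]⟩
  | mul_right x hx y hy ih =>
    obtain ⟨i, hi, rfl⟩ := hy
    exact hstep x ih i hi
  | mul_inv_cancel x hx y hy ih =>
    obtain ⟨i, hi, rfl⟩ := hy
    rw [sg_inv]
    exact hstep x ih i hi

/-- Cardinality consequence of the covering lemma. -/
theorem card_le_of_cover (H : Subgroup M.Group) [Finite H] (K : Subgroup M.Group) (m : ℕ)
    (rep : ℕ → M.Group) (hcov : ∀ g ∈ K, ∃ c < m, ∃ h ∈ H, g = h * rep c) :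
    Finite K ∧ Nat.card K ≤ m * Nat.card H := by
  let f : Fin m × H → M.Group := fun p => (p.2 : M.Group) * rep p.1
  have hsub : (K : Set M.Group) ⊆ Set.range f := by
    intro g hg
    obtain ⟨c, hc, h, hh, rfl⟩ := hcov g hg
    exact ⟨(⟨c, hc⟩, ⟨h, hh⟩), rfl⟩
  have hfin : (Set.range f).Finite := Set.finite_range f
  have hKfin : (K : Set M.Group).Finite := hfin.subset hsub
  refine ⟨hKfin.to_subtype, ?_⟩
  calc Nat.card K = (K : Set M.Group).ncard := (_root_.Nat.card_coe_set_eq (K : Set M.Group))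
    _ ≤ (Set.range f).ncard := Set.ncard_le_ncard hsub hfin
    _ ≤ Nat.card (Fin m × H) := by
        rw [← Set.image_univ]
        calc (f '' Set.univ).ncard ≤ (Set.univ : Set (Fin m × H)).ncard := Set.ncard_image_le Set.finite_univ
          _ = Nat.card (Fin m × H) := Set.ncard_univ _
    _ = m * Nat.card H := by rw [Nat.card_prod, Nat.card_fin]

end Cfsg.Agent.Helper19.Cox
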