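import Cfsg.Agent.Helper19.Cox.Action

set_option autoImplicit false

/-!
Orders of Coxeter groups from certificates: a chain of parabolic subgroups, each level with a
verified coset table (upper bound) and an orbit of distinct points (lower bound).
-/

namespace Cfsg.Agent.Helper19.Cox

open CoxeterSystem

/-- level data: coset representatives, certificate steps, base point -/
abbrev Level := List (List ℕ) × List Step × ℕ

def checkLevel (Mx : ℕ → ℕ → ℕ) (T : List ℕ) (n d k : ℕ) (lv : Level) : Bool :=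
  decide (0 < lv.1.length) && decide (lv.1.getD 0 [] = []) &&
    complete (lv.2.1.foldl (stepFn Mx k lv.1) 0) lv.1.length k &&
    checkLower T n d k lv.1 lv.2.2

def checkLevels (Mx : ℕ → ℕ → ℕ) (T : List ℕ) (n d : ℕ) : ℕ → List Level → Bool
  | _, [] => true
  | k, lv :: rest => checkLevel Mx T n d (k + 1) lv && checkLevels Mx T n d (k + 1) rest

section Main

variable {n : ℕ} (M : CoxeterMatrix (Fin n)) {T : List ℕ} {d : ℕ} (Mx : ℕ → ℕ → ℕ)
  (hI : checkInvol T n d = true) (hB : checkBraid Mx T n d = true)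
  (hMx : ∀ a b (ha : a < n) (hb : b < n), M ⟨a, ha⟩ ⟨b, hb⟩ = Mx a b)

theorem level_sound {k : ℕ} (hk1 : 1 ≤ k) (hkn : k ≤ n) (lv : Level)
    (h : checkLevel Mx T n d k lv = true) (hfin : Finite (Wsub M (k - 1))) :
    Finite (Wsub M k) ∧ Nat.card (Wsub M k) = lv.1.length * Nat.card (Wsub M (k - 1)) ∧
      ∀ g ∈ Wsub M k, phi M Mx hI hB hMx g = 1 → g ∈ Wsub M (k - 1) := by
  unfold checkLevel at h
  simp only [Bool.and_eq_true, decide_eq_true_eq] at h
  obtain ⟨⟨⟨h0, hnil⟩, hcomp⟩, hlow⟩ := h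
  have hH : ∀ i, i + 1 < k → sg M i ∈ Wsub M (k - 1) := fun i hi => sg_mem_Wsub M (by omega)
  have htab := table_sound M (Wsub M (k - 1)) lv.1 Mx k hkn hMx hH lv.2.1 lv.1.length hcomp
  have hrep0 : rp M lv.1 0 = 1 := by unfold rp; rw [hnil, gp_nil]
  have hcov := cover M (Wsub M (k - 1)) k lv.1.length (rp M lv.1) h0 hrep0 htab
  obtain ⟨hfink, hle⟩ := card_le_of_cover M (Wsub M (k - 1)) (Wsub M k) lv.1.length (rp M lv.1) hcov
  have hge := card_lower M Mx hI hB hMx hlow hk1
  refine ⟨hfink, le_antisymm hle hge, ?_⟩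
  intro g hg hphi
  obtain ⟨c, hc, g', hg', rfl⟩ := hcov g hg
  have h1 := phi_inv_pt M Mx hI hB hMx hlow hg' c
  rw [hphi, inv_one, Equiv.Perm.one_apply] at h1
  have h2 : pt T n d lv.1 lv.2.2 0 = lv.2.2 := by
    unfold pt; rw [hnil]; rfl
  have hc0 : c = 0 := pt_inj hlow hc h0 (by rw [← h1, h2])
  subst hc0
  rw [hrep0, mul_one]
  exact hg'

theorem levels_sound : ∀ (levels : List Level) (k : ℕ), k + levels.length ≤ n →
    checkLevels Mx T n d k levels = true → Finite (Wsub M k) →
    (∀ g ∈ Wsub M k, phi M Mx hI hB hMx g = 1 → g = 1) →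
    Finite (Wsub M (k + levels.length)) ∧
      Nat.card (Wsub M (k + levels.length)) =
        Nat.card (Wsub M k) * (levels.map fun lv => lv.1.length).prod ∧
      ∀ g ∈ Wsub M (k + levels.length), phi M Mx hI hB hMx g = 1 → g = 1 := by
  intro levels
  induction levels with
  | nil =>
    intro k _ _ hfin hker
    simp only [List.length_nil, Nat.add_zero, List.map_nil, List.prod_nil, mul_one]
    exact ⟨hfin, trivial, hker⟩
  | cons lv rest ih =>
    intro k hkn hchk hfin hker
    rw [checkLevels, Bool.and_eq_true] at hchk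
    rw [List.length_cons] at hkn
    have hfin' : Finite (Wsub M (k + 1 - 1)) := by rw [Nat.add_sub_cancel]; exact hfin
    obtain ⟨hf1, hc1, hk1⟩ := level_sound M Mx hI hB hMx (k := k + 1) (by omega) (by omega) lv
      hchk.1 hfin'
    rw [Nat.add_sub_cancel] at hc1 hk1
    have hker' : ∀ g ∈ Wsub M (k + 1), phi M Mx hI hB hMx g = 1 → g = 1 :=
      fun g hg hphi => hker g (hk1 g hg hphi) hphi
    obtain ⟨hf2, hc2, hk2⟩ := ih (k + 1) (by omega) hchk.2 hf1 hker'
    have e : k + (lv :: rest).length = k + 1 + rest.length := by rw [List.length_cons]; omega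
    rw [e]
    refine ⟨hf2, ?_, hk2⟩
    rw [hc2, hc1, List.map_cons, List.prod_cons]
    ring

theorem main (levels : List Level) (hlen : levels.length = n)
    (hchk : checkLevels Mx T n d 0 levels = true) :
    Nat.card M.Group = (levels.map fun lv => lv.1.length).prod ∧
      Function.Injective (phi M Mx hI hB hMx) := by
  have hfin0 : Finite (Wsub M 0) := by rw [Wsub_zero]; infer_instance
  have hker0 : ∀ g ∈ Wsub M 0, phi M Mx hI hB hMx g = 1 → g = 1 := by
    intro g hg _
    rw [Wsub_zero, Subgroup.mem_bot] at hg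
    exact hg
  obtain ⟨_, hc, hk⟩ := levels_sound M Mx hI hB hMx levels 0 (by omega) hchk hfin0 hker0
  rw [Nat.zero_add, hlen, Wsub_top] at hc hk
  have hc0 : Nat.card (Wsub M 0) = 1 := by rw [Wsub_zero]; simp
  rw [hc0, one_mul, Subgroup.card_top] at hc
  refine ⟨hc, ?_⟩
  rw [injective_iff_map_eq_one]
  intro g hg
  exact hk g (Subgroup.mem_top g) hg

end Main

end Cfsg.Agent.Helper19.Cox
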