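import Cfsg.Agent.Helper19.Cox.Main

set_option autoImplicit false

/-!
The order of the Coxeter element `s₁ s₂ ⋯ s_n`, computed in a faithful permutation representation.
-/

namespace Cfsg.Agent.Helper19.Cox

open CoxeterSystem

theorem coxeter_prod_eq {n : ℕ} (M : CoxeterMatrix (Fin n)) :
    ((List.finRange n).map M.simple).prod = gp M (List.range n) := by
  unfold gp
  rw [← List.map_coe_finRange_eq_range, List.map_map]
  congr 1
  apply List.map_congr_left
  intro i _
  show M.simple i = sg M i.1
  unfold sg
  rw [dif_pos i.2]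

/-- the Coxeter element acting on points -/
def cact (T : List ℕ) (n d : ℕ) (x : ℕ) : ℕ := actW T n d (List.range n) x

def checkOrder (T : List ℕ) (n d h : ℕ) (wits : List ℕ) : Bool :=
  decide (0 < h) &&
    ((List.range d).all fun x => decide ((cact T n d)^[h] x = x)) &&
    ((List.range h).all fun m =>
      decide (m = 0) || !decide ((cact T n d)^[m] (wits.getD m 0) = wits.getD m 0))

theorem actW_of_not_lt {T : List ℕ} {n d x : ℕ} (h : ¬ x < d) (w : List ℕ) :
    actW T n d w x = x := by
  induction w with
  | nil => rfl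
  | cons i w ih =>
    show tact T n d i (actW T n d w x) = x
    rw [ih, tact_of_not_lt h]

section

variable {n : ℕ} (M : CoxeterMatrix (Fin n)) {T : List ℕ} {d : ℕ} (Mx : ℕ → ℕ → ℕ)
  (hI : checkInvol T n d = true) (hB : checkBraid Mx T n d = true)
  (hMx : ∀ a b (ha : a < n) (hb : b < n), M ⟨a, ha⟩ ⟨b, hb⟩ = Mx a b)

theorem orderOf_coxeter (hinj : Function.Injective (phi M Mx hI hB hMx)) {h : ℕ} {wits : List ℕ}
    (hc : checkOrder T n d h wits = true) :
    orderOf ((List.finRange n).map M.simple).prod = h := by
  rw [coxeter_prod_eq, ← orderOf_injective (phi M Mx hI hB hMx) hinj]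
  unfold checkOrder at hc
  simp only [Bool.and_eq_true, decide_eq_true_eq] at hc
  obtain ⟨⟨hpos, hall⟩, hwit⟩ := hc
  have hfun : ⇑(phi M Mx hI hB hMx (gp M (List.range n))) = cact T n d := by
    funext x
    exact phi_gp M Mx hI hB hMx _ x
  rw [orderOf_eq_iff hpos]
  constructor
  · apply Equiv.ext
    intro x
    rw [Equiv.Perm.coe_pow, hfun, Equiv.Perm.one_apply]
    by_cases hx : x < d
    · rw [List.all_eq_true] at hall
      exact of_decide_eq_true (hall x (List.mem_range.mpr hx))
    · apply Function.iterate_fixed
      exact actW_of_not_lt hx _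
  · intro m hm hm0 heq
    rw [List.all_eq_true] at hwit
    have h1 := hwit m (List.mem_range.mpr hm)
    simp only [Bool.or_eq_true, decide_eq_true_eq, Bool.not_eq_eq_eq_not, Bool.not_true,
      decide_eq_false_iff_not] at h1
    rcases h1 with h1 | h1
    · omega
    · apply h1
      have := congrArg (fun p : Equiv.Perm ℕ => p (wits.getD m 0)) heq
      simp only [Equiv.Perm.coe_pow, Equiv.Perm.one_apply] at this
      rw [hfun] at this
      exact this

end

end Cfsg.Agent.Helper19.Cox
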