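import Cfsg.Agent.Helper19.Cox.Order
import Cfsg.Agent.Helper19.Cox.DataB2
import Cfsg.Agent.Helper19.Cox.DataG2
import Cfsg.Agent.Helper19.Cox.DataD4
import Cfsg.Agent.Helper19.Cox.DataF4
import Cfsg.Agent.Helper19.Cox.DataE6
import Cfsg.Agent.Helper19.Cox.DataE7
import Cfsg.Agent.Helper19.Cox.DataE8

set_option autoImplicit false
set_option maxRecDepth 100000

/-! Orders of the Coxeter elements (generated certificates). -/

namespace Cfsg.Agent.Helper19.Cox

theorem order_B2 : orderOf ((List.finRange 2).map (CoxeterMatrix.B 2).simple).prod = 4 :=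
  orderOf_coxeter (CoxeterMatrix.B 2) B2.Mx B2.hI B2.hB B2.hMx B2.phi_injective
    (h := 4) (wits := [0, 0, 0, 0]) (by decide +kernel)

theorem order_G2 : orderOf ((List.finRange 2).map (CoxeterMatrix.G₂).simple).prod = 6 :=
  orderOf_coxeter (CoxeterMatrix.G₂) G2.Mx G2.hI G2.hB G2.hMx G2.phi_injective
    (h := 6) (wits := [0, 0, 0, 0, 0, 0]) (by decide +kernel)

theorem order_D4 : orderOf ((List.finRange 4).map (Cfsg.Lie.coxeterD4).simple).prod = 6 :=
  orderOf_coxeter (Cfsg.Lie.coxeterD4) D4.Mx D4.hI D4.hB D4.hMx D4.phi_injective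
    (h := 6) (wits := [0, 0, 0, 0, 0, 0]) (by decide +kernel)

theorem order_F4 : orderOf ((List.finRange 4).map (CoxeterMatrix.F₄).simple).prod = 12 :=
  orderOf_coxeter (CoxeterMatrix.F₄) F4.Mx F4.hI F4.hB F4.hMx F4.phi_injective
    (h := 12) (wits := [0, 0, 0, 0, 0, 0, 0, 0, 0, 0, 0, 0]) (by decide +kernel)

theorem order_E6 : orderOf ((List.finRange 6).map (CoxeterMatrix.E₆).simple).prod = 12 :=
  orderOf_coxeter (CoxeterMatrix.E₆) E6.Mx E6.hI E6.hB E6.hMx E6.phi_injective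
    (h := 12) (wits := [0, 0, 0, 0, 0, 0, 0, 0, 0, 0, 0, 0]) (by decide +kernel)

theorem order_E7 : orderOf ((List.finRange 7).map (CoxeterMatrix.E₇).simple).prod = 18 :=
  orderOf_coxeter (CoxeterMatrix.E₇) E7.Mx E7.hI E7.hB E7.hMx E7.phi_injective
    (h := 18) (wits := [0, 0, 0, 0, 0, 0, 0, 0, 0, 0, 0, 0, 0, 0, 0, 0, 0, 0]) (by decide +kernel)

theorem order_E8 : orderOf ((List.finRange 8).map (CoxeterMatrix.E₈).simple).prod = 30 :=
  orderOf_coxeter (CoxeterMatrix.E₈) E8.Mx E8.hI E8.hB E8.hMx E8.phi_injective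
    (h := 30) (wits := [0, 0, 0, 0, 0, 0, 0, 0, 0, 0, 0, 0, 0, 0, 0, 0, 0, 0, 0, 0, 0, 0, 0, 0, 0, 0, 0, 0, 0, 0]) (by decide +kernel)

end Cfsg.Agent.Helper19.Cox
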