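import Cfsg.Agent.Helper19.Cox.Basic

set_option autoImplicit false

/-!
A verified checker for coset tables of parabolic subgroups of Coxeter groups: the table entries
are established one by one, by definitions (tree edges), subgroup generators, and scans of the
Coxeter relators with a single gap.
-/

namespace Cfsg.Agent.Helper19.Cox

/-! ### Bytes of natural numbers -/

def byteAt (t p : ℕ) : ℕ := (t >>> (8 * p)) % 256

def setByte (t p b : ℕ) : ℕ := t + b <<< (8 * p)

theorem byteAt_eq (t p : ℕ) : byteAt t p = (t / 256 ^ p) % 256 := by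
  unfold byteAt
  have h : (2 : ℕ) ^ 8 = 256 := by norm_num
  rw [Nat.shiftRight_eq_div_pow, pow_mul, h]

theorem setByte_eq (t p b : ℕ) : setByte t p b = t + b * 256 ^ p := by
  unfold setByte
  have h : (2 : ℕ) ^ 8 = 256 := by norm_num
  rw [Nat.shiftLeft_eq, pow_mul, h]

theorem byteAt_zero (p : ℕ) : byteAt 0 p = 0 := by
  rw [byteAt_eq]; simp

theorem byteAt_setByte {t p b : ℕ} (hb : b < 256) (h0 : byteAt t p = 0) (q : ℕ) :
    byteAt (setByte t p b) q = if q = p then b else byteAt t q := by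
  simp only [byteAt_eq, setByte_eq] at *
  have hB : 0 < 256 ^ q := by positivity
  rcases lt_trichotomy q p with h | h | h
  · rw [if_neg (by omega)]
    obtain ⟨e, rfl⟩ : ∃ e, p = q + e + 1 := ⟨p - q - 1, by omega⟩
    have e1 : b * 256 ^ (q + e + 1) = (b * 256 ^ e * 256) * 256 ^ q := by ring
    rw [e1, Nat.add_mul_div_right _ _ hB, Nat.add_mul_mod_self_right]
  · subst h
    rw [if_pos rfl, Nat.add_mul_div_right _ _ hB, Nat.add_mod, h0, Nat.zero_add, Nat.mod_mod,
      Nat.mod_eq_of_lt hb]
  · rw [if_neg (by omega)]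
    obtain ⟨e, rfl⟩ : ∃ e, q = p + e + 1 := ⟨q - p - 1, by omega⟩
    have hBp : 0 < 256 ^ p := by positivity
    have e1 : (256 : ℕ) ^ (p + e + 1) = 256 ^ p * (256 * 256 ^ e) := by ring
    rw [e1, ← Nat.div_div_eq_div_mul, ← Nat.div_div_eq_div_mul, ← Nat.div_div_eq_div_mul,
      ← Nat.div_div_eq_div_mul, Nat.add_mul_div_right _ _ hBp]
    have hu : t / 256 ^ p = 256 * (t / 256 ^ p / 256) := by
      have := Nat.div_add_mod (t / 256 ^ p) 256
      rw [h0, Nat.add_zero] at this
      exact this.symm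
    have e2 : (t / 256 ^ p + b) / 256 = t / 256 ^ p / 256 := by
      conv_lhs => rw [hu]
      rw [Nat.mul_add_div (by norm_num), Nat.div_eq_of_lt hb, Nat.add_zero]
    rw [e2]

theorem slot_inj {k c i c₁ i₁ : ℕ} (hi : i < k) (hi₁ : i₁ < k) (h : c * k + i = c₁ * k + i₁) :
    c = c₁ ∧ i = i₁ := by
  have hk : 0 < k := by omega
  have h1 : (c * k + i) / k = c := by
    rw [Nat.add_comm, Nat.add_mul_div_right _ _ hk, Nat.div_eq_of_lt hi, Nat.zero_add]
  have h2 : (c₁ * k + i₁) / k = c₁ := by
    rw [Nat.add_comm, Nat.add_mul_div_right _ _ hk, Nat.div_eq_of_lt hi₁, Nat.zero_add]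
  have hc : c = c₁ := by rw [← h1, ← h2, h]
  subst hc
  exact ⟨rfl, by omega⟩

/-- partial coset tables with `k` columns, packed into a natural number: the byte number
`c * k + i` is `0` if the entry `(c, i)` is unknown and `v + 1` if it is `v` -/
abbrev Tbl := ℕ

def look (k : ℕ) (t : Tbl) (c i : ℕ) : Option ℕ :=
  if i < k then
    (if byteAt t (c * k + i) = 0 then none else some (byteAt t (c * k + i) - 1))
  else none

def put (k : ℕ) (t : Tbl) (c i v : ℕ) : Tbl :=
  if i < k ∧ v + 1 < 256 ∧ byteAt t (c * k + i) = 0 then setByte t (c * k + i) (v + 1) else t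

theorem look_zero (k c i : ℕ) : look k 0 c i = none := by
  unfold look
  rw [byteAt_zero]
  simp

theorem look_put {k : ℕ} {t : Tbl} {c i v c₁ i₁ v₁ : ℕ}
    (h : look k (put k t c i v) c₁ i₁ = some v₁) :
    (c₁ = c ∧ i₁ = i ∧ v₁ = v) ∨ look k t c₁ i₁ = some v₁ := by
  unfold put at h
  split_ifs at h with hc
  · unfold look at h ⊢
    by_cases hi₁ : i₁ < k
    · rw [if_pos hi₁] at h ⊢
      rw [byteAt_setByte hc.2.1 hc.2.2] at h
      by_cases hq : c₁ * k + i₁ = c * k + i
      · obtain ⟨h1, h2⟩ := slot_inj hi₁ hc.1 hq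
        rw [if_pos hq] at h
        rw [if_neg (by omega)] at h
        simp only [Nat.add_sub_cancel, Option.some.injEq] at h
        exact Or.inl ⟨h1, h2, h.symm⟩
      · rw [if_neg hq] at h
        exact Or.inr h
    · rw [if_neg hi₁] at h
      exact absurd h (by simp)
  · exact Or.inr h

/-- the word `(a b)^j a` -/
def scanW (a b : ℕ) : ℕ → List ℕ
  | 0 => [a]
  | j + 1 => a :: b :: scanW a b j

/-- follow a word through the known entries of a table -/
def follow (k : ℕ) (t : Tbl) : ℕ → List ℕ → Option ℕ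
  | c, [] => some c
  | c, i :: w =>
    match look k t c i with
    | some c' => follow k t c' w
    | none => none

/-- certificate steps `(tag, x, y, z)` -/
abbrev Step := ℕ × ℕ × ℕ × ℕ

def stepFn (Mx : ℕ → ℕ → ℕ) (k : ℕ) (reps : List (List ℕ)) (t : Tbl) (s : Step) : Tbl :=
  if s.1 = 0 then
    (if reps.getD s.2.2.2 [] = reps.getD s.2.1 [] ++ [s.2.2.1] then
      put k (put k t s.2.1 s.2.2.1 s.2.2.2) s.2.2.2 s.2.2.1 s.2.1 else t)
  else if s.1 = 1 then
    (if s.2.1 + 1 < k ∧ reps.getD 0 [] = [] then put k t 0 s.2.1 0 else t)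
  else
    (if s.2.1 < k ∧ s.2.2.1 < k ∧ 0 < Mx s.2.1 s.2.2.1 then
      match follow k t s.2.2.2 (scanW s.2.1 s.2.2.1 (Mx s.2.1 s.2.2.1 - 1)) with
      | some c' => put k (put k t c' s.2.2.1 s.2.2.2) s.2.2.2 s.2.2.1 c'
      | none => t
    else t)

def complete (t : Tbl) (m k : ℕ) : Bool :=
  (List.range m).all fun c => (List.range k).all fun i =>
    match look k t c i with
    | some c' => decide (c' < m)
    | none => false

section Sound

open CoxeterSystem

variable {n : ℕ} (M : CoxeterMatrix (Fin n)) (H : Subgroup M.Group) (reps : List (List ℕ))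

/-- the coset representative number `c` -/
noncomputable def rp (c : ℕ) : M.Group := gp M (reps.getD c [])

/-- the table entry `c · i = c'` is correct -/
def Ent (c i c' : ℕ) : Prop := rp M reps c * sg M i * (rp M reps c')⁻¹ ∈ H

def Inv (k : ℕ) (t : Tbl) : Prop := ∀ c i c', look k t c i = some c' → Ent M H reps c i c'

theorem Ent.symm {c i c' : ℕ} (h : Ent M H reps c i c') : Ent M H reps c' i c := by
  unfold Ent at h ⊢
  have := H.inv_mem h
  rw [mul_inv_rev, mul_inv_rev, inv_inv, sg_inv, ← mul_assoc] at this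
  exact this

theorem Inv.put {k : ℕ} {t : Tbl} (ht : Inv M H reps k t) {c i v : ℕ} (h : Ent M H reps c i v) :
    Inv M H reps k (put k t c i v) := by
  intro c₁ i₁ v₁ hl
  rcases look_put hl with ⟨rfl, rfl, rfl⟩ | h'
  · exact h
  · exact ht _ _ _ h'

theorem follow_sound {k : ℕ} {t : Tbl} (ht : Inv M H reps k t) (w : List ℕ) :
    ∀ c c', follow k t c w = some c' → rp M reps c * gp M w * (rp M reps c')⁻¹ ∈ H := by
  induction w with
  | nil =>
    intro c c' h
    simp only [follow, Option.some.injEq] at h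
    subst h
    simp [H.one_mem]
  | cons i w ih =>
    intro c c' h
    simp only [follow] at h
    split at h
    · rename_i c₁ hc₁
      have h1 := ht _ _ _ hc₁
      have h2 := ih c₁ c' h
      have := H.mul_mem h1 h2
      unfold Ent at h1
      rw [gp_cons]
      have e : rp M reps c * (sg M i * gp M w) * (rp M reps c')⁻¹ =
          (rp M reps c * sg M i * (rp M reps c₁)⁻¹) * (rp M reps c₁ * gp M w * (rp M reps c')⁻¹) := by
        group
      rw [e]
      exact H.mul_mem h1 h2
    · exact absurd h (by simp)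

theorem gp_scanW (a b j : ℕ) : gp M (scanW a b j) = (sg M a * sg M b) ^ j * sg M a := by
  induction j with
  | zero => simp [scanW]
  | succ j ih =>
    rw [scanW, gp_cons, gp_cons, ih, pow_succ']
    group

theorem gp_scanW_of_pow {a b m : ℕ} (hm : 0 < m) (h : (sg M a * sg M b) ^ m = 1) :
    gp M (scanW a b (m - 1)) = sg M b := by
  rw [gp_scanW]
  obtain ⟨j, rfl⟩ : ∃ j, m = j + 1 := ⟨m - 1, by omega⟩
  simp only [Nat.add_sub_cancel]
  rw [pow_succ] at h
  have h2 : (sg M a * sg M b) ^ j * sg M a * sg M b = 1 := by rw [← h]; group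
  calc (sg M a * sg M b) ^ j * sg M a = ((sg M a * sg M b) ^ j * sg M a * sg M b) * (sg M b)⁻¹ := by
        group
    _ = sg M b := by rw [h2, one_mul, sg_inv]

variable (Mx : ℕ → ℕ → ℕ) (k : ℕ)

theorem stepFn_inv (hk : k ≤ n)
    (hMx : ∀ a b (ha : a < n) (hb : b < n), M ⟨a, ha⟩ ⟨b, hb⟩ = Mx a b)
    (hH : ∀ i, i + 1 < k → sg M i ∈ H) {t : Tbl} (ht : Inv M H reps k t) (s : Step) :
    Inv M H reps k (stepFn Mx k reps t s) := by
  unfold stepFn
  split_ifs with h0 h0' h1 h1' h2
  · -- tree edge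
    have hE : Ent M H reps s.2.1 s.2.2.1 s.2.2.2 := by
      unfold Ent rp
      rw [h0', gp_append, gp_singleton]
      simp [H.one_mem]
    exact (ht.put M H reps hE).put M H reps (hE.symm M H reps)
  · exact ht
  · -- subgroup generator
    have hE : Ent M H reps 0 s.2.1 0 := by
      unfold Ent rp
      rw [h1'.2]
      simpa using hH _ h1'.1
    exact ht.put M H reps hE
  · exact ht
  · -- scan
    split
    · rename_i c' hc'
      have ha : s.2.1 < n := lt_of_lt_of_le h2.1 hk
      have hb : s.2.2.1 < n := lt_of_lt_of_le h2.2.1 hk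
      have hpow : (sg M s.2.1 * sg M s.2.2.1) ^ Mx s.2.1 s.2.2.1 = 1 := by
        rw [← hMx _ _ ha hb]; exact sg_mul_sg_pow M ha hb
      have hf := follow_sound M H reps ht _ _ _ hc'
      rw [gp_scanW_of_pow M h2.2.2 hpow] at hf
      have hE : Ent M H reps s.2.2.2 s.2.2.1 c' := hf
      exact ((ht.put M H reps (hE.symm M H reps)).put M H reps hE)
    · exact ht
  · exact ht

theorem foldl_inv (hk : k ≤ n)
    (hMx : ∀ a b (ha : a < n) (hb : b < n), M ⟨a, ha⟩ ⟨b, hb⟩ = Mx a b)
    (hH : ∀ i, i + 1 < k → sg M i ∈ H) (steps : List Step) :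
    ∀ t : Tbl, Inv M H reps k t → Inv M H reps k (steps.foldl (stepFn Mx k reps) t) := by
  induction steps with
  | nil => intro t ht; exact ht
  | cons s steps ih =>
    intro t ht
    rw [List.foldl_cons]
    exact ih _ (stepFn_inv M H reps Mx k hk hMx hH ht s)

theorem table_sound (hk : k ≤ n)
    (hMx : ∀ a b (ha : a < n) (hb : b < n), M ⟨a, ha⟩ ⟨b, hb⟩ = Mx a b)
    (hH : ∀ i, i + 1 < k → sg M i ∈ H) (steps : List Step) (m : ℕ)
    (hc : complete (steps.foldl (stepFn Mx k reps) 0) m k = true) :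
    ∀ c < m, ∀ i < k, ∃ c' < m, rp M reps c * sg M i * (rp M reps c')⁻¹ ∈ H := by
  have hinv : Inv M H reps k (steps.foldl (stepFn Mx k reps) 0) := by
    apply foldl_inv M H reps Mx k hk hMx hH
    intro c i c' h
    rw [look_zero] at h
    exact absurd h (by simp)
  intro c hcm i hik
  unfold complete at hc
  rw [List.all_eq_true] at hc
  have h1 := hc c (List.mem_range.mpr hcm)
  rw [List.all_eq_true] at h1
  have h2 := h1 i (List.mem_range.mpr hik)
  split at h2
  · rename_i c' hc'
    exact ⟨c', of_decide_eq_true h2, hinv _ _ _ hc'⟩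
  · exact absurd h2 (by simp)

end Sound

end Cfsg.Agent.Helper19.Cox
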